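import Groth.Agent.HTopPerf.Ops

/-!
Descent of global functions along the base changes of a morphism, up to a uniform `p`-power, and its propagation
along the elementary covering families of `Groth.Agent.HTopPerf.Ops`.
-/

set_option autoImplicit false
set_option backward.isDefEq.respectTransparency false
set_option backward.isDefEq.respectTransparency.types false

universe u

open CategoryTheory Limits AlgebraicGeometry Opposite

namespace Groth.Agent.HTopPerf

theorem sub_pow_p {R : Type u} [CommRing R] {p : ℕ} (hp : p.Prime) (h : (p : R) = 0) (a b : R) (n : ℕ) :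
    (a - b) ^ p ^ n = a ^ p ^ n - b ^ p ^ n := by
  rcases subsingleton_or_nontrivial R with hs | hs
  · exact Subsingleton.elim _ _
  haveI : Fact p.Prime := ⟨hp⟩
  haveI : CharP R p := by
    obtain ⟨q, hq⟩ := CharP.exists R
    obtain rfl : q = p := ((Nat.dvd_prime hp).mp ((CharP.cast_eq_zero_iff R q p).mp h)).resolve_left (CharP.char_ne_one R q)
    exact hq
  exact sub_pow_char_pow _ _ _

theorem pow_p_eq_zero_of_le {R : Type u} [CommRing R] {p : ℕ} (hp : p.Prime) {a : R} {m n : ℕ} (hmn : m ≤ n)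
    (h : a ^ p ^ m = 0) : a ^ p ^ n = 0 :=
  pow_eq_zero_of_le (Nat.pow_le_pow_right hp.pos hmn) h

variable {R₀ : CommRingCat.{u}} {Y : Scheme.{u}} (f : Y ⟶ Spec R₀)

/-- The base change of `f` to a ring. -/
noncomputable abbrev BC {A : Type u} [CommRing A] (g : R₀ →+* A) : Scheme.{u} :=
  pullback f (Spec.map (CommRingCat.ofHom g))

/-- Functions of the base as functions on the base change. -/
noncomputable def eta {A : Type u} [CommRing A] (g : R₀ →+* A) : A →+* Γ(BC f g, ⊤) :=
  ((Scheme.ΓSpecIso (CommRingCat.of A)).inv ≫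
    (pullback.snd f (Spec.map (CommRingCat.ofHom g))).appTop).hom

/-- The map between two base changes. -/
noncomputable def res {A B : Type u} [CommRing A] [CommRing B] (α : A →+* B) (g : R₀ →+* A) {g' : R₀ →+* B}
    (h : α.comp g = g') : BC f g' ⟶ BC f g :=
  pullback.lift (pullback.fst _ _) (pullback.snd _ _ ≫ Spec.map (CommRingCat.ofHom α)) (by
    rw [pullback.condition, Category.assoc, ← Spec.map_comp]
    subst h; rfl)

theorem res_fst {A B : Type u} [CommRing A] [CommRing B] (α : A →+* B) (g : R₀ →+* A) {g' : R₀ →+* B}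
    (h : α.comp g = g') : res f α g h ≫ pullback.fst _ _ = pullback.fst _ _ := pullback.lift_fst _ _ _

theorem res_snd {A B : Type u} [CommRing A] [CommRing B] (α : A →+* B) (g : R₀ →+* A) {g' : R₀ →+* B}
    (h : α.comp g = g') : res f α g h ≫ pullback.snd _ _ = pullback.snd _ _ ≫ Spec.map (CommRingCat.ofHom α) :=
  pullback.lift_snd _ _ _

theorem res_eta {A B : Type u} [CommRing A] [CommRing B] (α : A →+* B) (g : R₀ →+* A) {g' : R₀ →+* B}
    (h : α.comp g = g') (a : A) : (res f α g h).appTop (eta f g a) = eta f g' (α a) := by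
  show ((Scheme.ΓSpecIso (CommRingCat.of A)).inv ≫ (pullback.snd f (Spec.map (CommRingCat.ofHom g))).appTop ≫
      (res f α g h).appTop) a =
    (CommRingCat.ofHom α ≫ (Scheme.ΓSpecIso (CommRingCat.of B)).inv ≫
      (pullback.snd f (Spec.map (CommRingCat.ofHom g'))).appTop) a
  rw [← Scheme.Hom.comp_appTop, res_snd, Scheme.Hom.comp_appTop, Scheme.ΓSpecIso_inv_naturality_assoc]

theorem res_comp {A B C : Type u} [CommRing A] [CommRing B] [CommRing C] (α : A →+* B) (β : B →+* C)
    (g : R₀ →+* A) {g₁ : R₀ →+* B} {g₂ : R₀ →+* C} (h₁ : α.comp g = g₁) (h₂ : β.comp g₁ = g₂)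
    {γ : A →+* C} (hγ : β.comp α = γ) (h₃ : γ.comp g = g₂) :
    res f β g₁ h₂ ≫ res f α g h₁ = res f γ g h₃ := by
  apply pullback.hom_ext
  · rw [Category.assoc, res_fst, res_fst, res_fst]
  · rw [Category.assoc, res_snd, reassoc_of% res_snd f β g₁ h₂, res_snd, ← Spec.map_comp]
    subst hγ; rfl

/-- The two functions on the self fibre product of the base change agree. -/
def Equalized {A : Type u} [CommRing A] (g : R₀ →+* A) (b : Γ(BC f g, ⊤)) : Prop :=
  (pullback.fst (pullback.snd f (Spec.map (CommRingCat.ofHom g)))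
      (pullback.snd f (Spec.map (CommRingCat.ofHom g)))).appTop b =
    (pullback.snd (pullback.snd f (Spec.map (CommRingCat.ofHom g)))
      (pullback.snd f (Spec.map (CommRingCat.ofHom g)))).appTop b

theorem Equalized.res {A B : Type u} [CommRing A] [CommRing B] (α : A →+* B) (g : R₀ →+* A) {g' : R₀ →+* B}
    (h : α.comp g = g') {b : Γ(BC f g, ⊤)} (hb : Equalized f g b) : Equalized f g' ((res f α g h).appTop b) := by
  let m := pullback.map (pullback.snd f (Spec.map (CommRingCat.ofHom g'))) (pullback.snd f (Spec.map (CommRingCat.ofHom g')))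
    (pullback.snd f (Spec.map (CommRingCat.ofHom g))) (pullback.snd f (Spec.map (CommRingCat.ofHom g)))
    (HTopPerf.res f α g h) (HTopPerf.res f α g h) (Spec.map (CommRingCat.ofHom α)) (res_snd f α g h).symm
    (res_snd f α g h).symm
  show ((HTopPerf.res f α g h).appTop ≫ Scheme.Hom.appTop (pullback.fst (pullback.snd f
      (Spec.map (CommRingCat.ofHom g'))) (pullback.snd f (Spec.map (CommRingCat.ofHom g'))))) b =
    ((HTopPerf.res f α g h).appTop ≫ Scheme.Hom.appTop (pullback.snd (pullback.snd f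
      (Spec.map (CommRingCat.ofHom g'))) (pullback.snd f (Spec.map (CommRingCat.ofHom g'))))) b
  rw [← Scheme.Hom.comp_appTop, ← Scheme.Hom.comp_appTop,
    show pullback.fst _ _ ≫ HTopPerf.res f α g h = m ≫ pullback.fst _ _ from (pullback.lift_fst _ _ _).symm,
    show pullback.snd _ _ ≫ HTopPerf.res f α g h = m ≫ pullback.snd _ _ from (pullback.lift_snd _ _ _).symm,
    Scheme.Hom.comp_appTop, Scheme.Hom.comp_appTop]
  exact congrArg _ hb

/-- Kernel and cokernel of functions into equalized functions on the base change are killed by the `p ^ N`-th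
power. -/
def Desc (p N : ℕ) {A : Type u} [CommRing A] (g : R₀ →+* A) : Prop :=
  (∀ a, eta f g a = 0 → a ^ p ^ N = 0) ∧
    ∀ b, Equalized f g b → ∃ a, eta f g a = b ^ p ^ N

/-- Uniform descent after every base change through `ρ`. -/
def Good (p : ℕ) {L : Type u} [CommRing L] (ρ : R₀ →+* L) : Prop :=
  ∃ N : ℕ, ∀ (A : Type u) [CommRing A] (φ : L →+* A), (p : A) = 0 → Desc f p N (φ.comp ρ)

variable {f} {p : ℕ}

theorem Desc.mono (hp : p.Prime) {N N' : ℕ} (hN : N ≤ N') {A : Type u} [CommRing A] {g : R₀ →+* A}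
    (h : Desc f p N g) : Desc f p N' g := by
  refine ⟨fun a ha => pow_p_eq_zero_of_le hp hN (h.1 a ha), fun b hb => ?_⟩
  obtain ⟨a, ha⟩ := h.2 b hb
  refine ⟨a ^ p ^ (N' - N), ?_⟩
  rw [map_pow, ha, ← pow_mul, ← pow_add, Nat.add_sub_cancel' hN]

theorem Good.of_hom {L L' : Type u} [CommRing L] [CommRing L'] {ρ : R₀ →+* L} (e : L →+* L') {ρ' : R₀ →+* L'}
    (he : e.comp ρ = ρ') (h : Good f p ρ) : Good f p ρ' := by
  obtain ⟨N, hN⟩ := h
  refine ⟨N, fun A _ φ hA => ?_⟩
  rw [← he, ← RingHom.comp_assoc]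
  exact hN A (φ.comp e) hA

theorem Good.of_subsingleton (hp : p.Prime) {L : Type u} [CommRing L] [Subsingleton L] (ρ : R₀ →+* L) :
    Good f p ρ := by
  refine ⟨0, fun A _ φ _ => ?_⟩
  haveI : Subsingleton A := subsingleton_of_zero_eq_one (by
    rw [← map_zero φ, ← map_one φ, Subsingleton.elim (0 : L) 1])
  haveI : Subsingleton Γ(BC f (φ.comp ρ), ⊤) := subsingleton_of_zero_eq_one (by
    rw [← map_zero (eta f (φ.comp ρ)), ← map_one (eta f (φ.comp ρ)), Subsingleton.elim (0 : A) 1])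
  exact ⟨fun a _ => Subsingleton.elim _ _, fun b _ => ⟨0, Subsingleton.elim _ _⟩⟩

theorem Good.of_section {L : Type u} [CommRing L] {ρ : R₀ →+* L} (s : Spec (CommRingCat.of L) ⟶ Y)
    (hs : s ≫ f = Spec.map (CommRingCat.ofHom ρ)) : Good f p ρ := by
  refine ⟨0, fun A _ φ _ => ?_⟩
  let σ : Spec (CommRingCat.of A) ⟶ BC f (φ.comp ρ) :=
    pullback.lift (Spec.map (CommRingCat.ofHom φ) ≫ s) (𝟙 _) (by
      rw [Category.assoc, hs, Category.id_comp, ← Spec.map_comp]; rfl)
  have hσ : σ ≫ pullback.snd _ _ = 𝟙 _ := pullback.lift_snd _ _ _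
  let r : Γ(BC f (φ.comp ρ), ⊤) →+* A := (σ.appTop ≫ (Scheme.ΓSpecIso (CommRingCat.of A)).hom).hom
  have hr : ∀ a, r (eta f (φ.comp ρ) a) = a := fun a => by
    show ((Scheme.ΓSpecIso (CommRingCat.of A)).inv ≫ (pullback.snd f _).appTop ≫ σ.appTop ≫
      (Scheme.ΓSpecIso (CommRingCat.of A)).hom) a = a
    rw [← Scheme.Hom.comp_appTop_assoc, hσ]
    simp
  refine ⟨fun a ha => ?_, fun b hb => ⟨r b, ?_⟩⟩
  · rw [pow_zero, pow_one, ← hr a, ha, map_zero]
  · rw [pow_zero, pow_one]
    let π := pullback.snd f (Spec.map (CommRingCat.ofHom (φ.comp ρ)))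
    let m : BC f (φ.comp ρ) ⟶ pullback π π := pullback.lift (π ≫ σ) (𝟙 _) (by
      rw [Category.assoc, hσ, Category.comp_id, Category.id_comp])
    have e : m.appTop ((pullback.fst π π).appTop b) = m.appTop ((pullback.snd π π).appTop b) := congrArg _ hb
    have e' : ((pullback.fst π π).appTop ≫ m.appTop) b = ((pullback.snd π π).appTop ≫ m.appTop) b := e
    rw [← Scheme.Hom.comp_appTop, ← Scheme.Hom.comp_appTop, pullback.lift_fst, pullback.lift_snd] at e'
    show ((σ.appTop ≫ (Scheme.ΓSpecIso (CommRingCat.of A)).hom) ≫ (Scheme.ΓSpecIso (CommRingCat.of A)).inv ≫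
      π.appTop) b = b
    rw [Category.assoc, Iso.hom_inv_id_assoc, ← Scheme.Hom.comp_appTop]
    refine e'.trans ?_
    rw [Scheme.Hom.id_appTop]
    rfl

/-- A function on the base change killed on the members of a covering family is killed by a `p`-power. -/
theorem separation {A : Type u} [CommRing A] (g : R₀ →+* A) {ι : Type u} {B : ι → CommRingCat.{u}}
    (α : ∀ i, A →+* B i) (M : ℕ) (h : Γ(BC f g, ⊤)) (h0 : ∀ i, (res f (α i) g rfl).appTop h = 0)
    (hcov : ∀ (C : Type u) [CommRing C] (c : A →+* C), ∃ (B' : ι → CommRingCat.{u}) (α' : ∀ i, C →+* B' i),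
      (∀ i, ∃ γ : B i →+* B' i, γ.comp (α i) = (α' i).comp c) ∧
        ∀ x : C, (∀ i, α' i x = 0) → x ^ p ^ M = 0) :
    h ^ p ^ M = 0 := by
  refine (BC f g).sheaf.eq_of_locally_eq' (fun U : (BC f g).affineOpens => U.1) ⊤ (fun U => homOfLE le_top) ?_
    _ _ fun U => ?_
  · exact (iSup_affineOpens_eq_top (BC f g)).ge
  show (BC f g).presheaf.map _ _ = (BC f g).presheaf.map _ _
  rw [map_pow, map_zero]
  let C := Γ(BC f g, U.1)
  let cC : CommRingCat.of A ⟶ C := Spec.preimage (U.2.fromSpec ≫ pullback.snd _ _)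
  obtain ⟨B', α', hγ, hker⟩ := hcov C cC.hom
  refine hker _ fun i => ?_
  obtain ⟨γ, hγi⟩ := hγ i
  let x : Spec (B' i) ⟶ BC f g := Spec.map (CommRingCat.ofHom (α' i)) ≫ U.2.fromSpec
  have hx : x ≫ pullback.snd _ _ = Spec.map (CommRingCat.ofHom γ) ≫ Spec.map (CommRingCat.ofHom (α i)) := by
    rw [Category.assoc, ← Spec.map_preimage (U.2.fromSpec ≫ pullback.snd _ _), ← Spec.map_comp, ← Spec.map_comp]
    congr 1
    exact CommRingCat.hom_ext hγi.symm
  let w : Spec (B' i) ⟶ BC f ((α i).comp g) :=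
    pullback.lift (x ≫ pullback.fst _ _) (Spec.map (CommRingCat.ofHom γ)) (by
      rw [Category.assoc, pullback.condition, reassoc_of% hx, ← Spec.map_comp]; rfl)
  have hw : w ≫ res f (α i) g rfl = x := by
    apply pullback.hom_ext
    · rw [Category.assoc, res_fst, pullback.lift_fst]
    · rw [Category.assoc, res_snd, pullback.lift_snd_assoc, hx]
  have e : x.appTop h = 0 := by
    rw [← hw, Scheme.Hom.comp_appTop]
    show w.appTop ((res f (α i) g rfl).appTop h) = 0
    rw [h0, map_zero]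
  have hfs : U.2.fromSpec.appTop = (BC f g).presheaf.map (homOfLE le_top).op ≫
      (Scheme.ΓSpecIso C).inv := by
    refine (U.2.fromSpec_app_of_le ⊤ le_top).trans ?_
    simp [C]
  have hxtop : x.appTop = (BC f g).presheaf.map (homOfLE le_top).op ≫ CommRingCat.ofHom (α' i) ≫
      (Scheme.ΓSpecIso (B' i)).inv := by
    rw [Scheme.Hom.comp_appTop, hfs, Category.assoc, ← Scheme.ΓSpecIso_inv_naturality]
  rw [hxtop] at e
  exact (ConcreteCategory.bijective_of_isIso (Scheme.ΓSpecIso (B' i)).inv).1 (e.trans (map_zero _).symm)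

theorem Good.of_uCov (hp : p.Prime) {L : Type u} [CommRing L] {ρ : R₀ →+* L} {ι : Type u} [Finite ι]
    {L' : ι → CommRingCat.{u}} {l : ∀ i, L →+* L' i} (hl : UCov p L' l)
    (h : ∀ i, Good f p ((l i).comp ρ)) : Good f p ρ := by
  obtain ⟨M, hM⟩ := hl
  choose N hN using h
  obtain ⟨N₀, hN₀⟩ := Finite.exists_le N
  refine ⟨N₀ + N₀ + M + M, fun A _ φ hA => ?_⟩
  obtain ⟨B, α, ψ, hc, hlift, hker, hglue⟩ := hM A φ hA
  have hB : ∀ i, (p : B i) = 0 := fun i => by rw [← map_natCast (α i), hA, map_zero]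
  have hD : ∀ (i : ι) {C : Type u} [CommRing C] (β : B i →+* C), (p : C) = 0 →
      Desc f p N₀ ((β.comp (α i)).comp (φ.comp ρ)) := fun i C _ β hC => by
    have e : (β.comp (α i)).comp (φ.comp ρ) = (β.comp (ψ i)).comp ((l i).comp ρ) := by
      refine RingHom.ext fun x => ?_
      exact congrArg β (RingHom.congr_fun (hc i) (ρ x))
    rw [e]
    exact (hN i C (β.comp (ψ i)) hC).mono hp (hN₀ i)
  have hDi : ∀ i, Desc f p N₀ ((α i).comp (φ.comp ρ)) := fun i => by
    simpa using hD i (RingHom.id _) (hB i)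
  refine ⟨fun a ha => ?_, fun b hb => ?_⟩
  · have h1 : ∀ i, α i (a ^ p ^ N₀) = 0 := fun i => by
      rw [map_pow]
      refine (hDi i).1 _ ?_
      rw [← res_eta f (α i) (φ.comp ρ) rfl, ha, map_zero]
    have h2 := hker _ h1
    rw [← pow_mul, ← pow_add] at h2
    exact pow_p_eq_zero_of_le hp (by omega) h2
  · choose c hcc using fun i => (hDi i).2 _ (hb.res f (α i) (φ.comp ρ) rfl)
    have hagree : ∀ (i j : ι) (C : CommRingCat.{u}) (β : B i →+* C) (β' : B j →+* C),
        β.comp (α i) = β'.comp (α j) → β (c i ^ p ^ N₀) = β' (c j ^ p ^ N₀) := by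
      intro i j C β β' hββ
      have hC : (p : C) = 0 := by rw [← map_natCast β, hB, map_zero]
      rw [map_pow, map_pow, ← sub_eq_zero, ← sub_pow_p hp hC]
      refine (hD i β hC).1 _ ?_
      rw [map_sub, ← res_eta f β ((α i).comp (φ.comp ρ)) (g' := (β.comp (α i)).comp (φ.comp ρ)) rfl,
        ← res_eta f β' ((α j).comp (φ.comp ρ)) (g' := (β.comp (α i)).comp (φ.comp ρ)) (by rw [hββ]; rfl),
        hcc, hcc, map_pow, map_pow]
      have e1 : (res f β ((α i).comp (φ.comp ρ)) (g' := (β.comp (α i)).comp (φ.comp ρ)) rfl).appTop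
          ((res f (α i) (φ.comp ρ) rfl).appTop b) = (res f (β.comp (α i)) (φ.comp ρ) rfl).appTop b := by
        rw [← res_comp f (α i) β (φ.comp ρ) rfl rfl rfl rfl, Scheme.Hom.comp_appTop]; rfl
      have e2 : (res f β' ((α j).comp (φ.comp ρ)) (g' := (β.comp (α i)).comp (φ.comp ρ))
          (by rw [hββ]; rfl)).appTop ((res f (α j) (φ.comp ρ) rfl).appTop b) =
          (res f (β.comp (α i)) (φ.comp ρ) rfl).appTop b := by
        rw [← res_comp f (α j) β' (φ.comp ρ) rfl (g₂ := (β.comp (α i)).comp (φ.comp ρ)) (by rw [hββ]; rfl)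
          hββ.symm rfl, Scheme.Hom.comp_appTop]; rfl
      rw [e1, e2, sub_self]
    obtain ⟨a, ha⟩ := hglue (fun i => c i ^ p ^ N₀) hagree
    have hAΓ : (p : Γ(BC f (φ.comp ρ), ⊤)) = 0 := by rw [← map_natCast (eta f (φ.comp ρ)), hA, map_zero]
    have hzero : ∀ i, (res f (α i) (φ.comp ρ) rfl).appTop
        (eta f (φ.comp ρ) a - b ^ p ^ (N₀ + N₀ + M)) = 0 := fun i => by
      rw [map_sub, res_eta, ha, map_pow, map_pow, map_pow, hcc, sub_eq_zero, ← pow_mul, ← pow_mul, ← pow_add,
        ← pow_add, add_assoc]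
    have h3 := separation (p := p) (φ.comp ρ) α M _ hzero fun C _ cC => by
      obtain ⟨B', α', ψ', hc', -, hker', -⟩ := hM C (cC.comp φ) (by rw [← map_natCast cC, hA, map_zero])
      refine ⟨B', α', fun i => hlift i (B' i) ((α' i).comp cC) (ψ' i) ?_, hker'⟩
      rw [RingHom.comp_assoc]
      exact hc' i
    rw [sub_pow_p hp hAΓ, sub_eq_zero, ← pow_mul, ← pow_add] at h3
    exact ⟨a ^ p ^ M, by rw [map_pow, h3]⟩

end Groth.Agent.HTopPerf
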