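import Mathlib

/-!
Finite free orders in finite field extensions of the fraction field of a domain.
-/

set_option autoImplicit false

universe u

namespace Groth.Agent.HTopPerf

theorem exists_free_order {D K L : Type u} [CommRing D] [IsDomain D] [Field K] [Algebra D K] [IsFractionRing D K]
    [Field L] [Algebra K L] [Algebra D L] [IsScalarTower D K L] [Module.Finite K L] :
    ∃ D' : Subalgebra D L, Module.Free D D' ∧ Module.Finite D D' ∧
      ∀ x : L, ∃ g : D, g ≠ 0 ∧ algebraMap D L g * x ∈ D' := by
  classical
  have hone : LinearIndepOn K id ({1} : Set L) := LinearIndepOn.singleton one_ne_zero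
  let b := Module.Basis.extend hone
  let ι := ↥(hone.extend (Set.subset_univ _))
  let i₀ : ι := ⟨1, hone.subset_extend _ (Set.mem_singleton _)⟩
  have hb : ∀ i : ι, b i = (i : L) := fun i => Module.Basis.extend_apply_self hone i
  haveI : Finite ι := Module.Finite.finite_basis b
  haveI : Fintype ι := Fintype.ofFinite ι
  obtain ⟨⟨s, hs⟩, hsint⟩ := IsLocalization.exist_integer_multiples_of_finite (nonZeroDivisors D)
    (fun t : ι × ι × ι => b.repr (b t.1 * b t.2.1) t.2.2)
  have hsL : algebraMap D L s ≠ 0 := by
    rw [IsScalarTower.algebraMap_apply D K L]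
    exact (map_ne_zero _).mpr (IsFractionRing.to_map_ne_zero_of_mem_nonZeroDivisors hs)
  let e : ι → L := fun i => if i = i₀ then 1 else algebraMap D L s * b i
  let M : Submodule D L := Submodule.span D (Set.range e)
  have h1 : (1 : L) ∈ M := Submodule.subset_span ⟨i₀, by simp [e]⟩
  have hmono : ∀ (d : D) (k : ι), algebraMap D L d * algebraMap D L s * b k ∈ M := fun d k => by
    by_cases hk : k = i₀
    · rw [hk, hb, show ((i₀ : ι) : L) = 1 from rfl, mul_one, ← map_mul]
      simpa [Algebra.smul_def] using M.smul_mem (d * s) h1
    · have : e k ∈ M := Submodule.subset_span ⟨k, rfl⟩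
      simpa [e, hk, Algebra.smul_def, mul_assoc] using M.smul_mem d this
  have hmul : ∀ i j, e i * e j ∈ M := fun i j => by
    by_cases hi : i = i₀
    · rw [show e i = 1 by simp [e, hi], one_mul]
      exact Submodule.subset_span ⟨j, rfl⟩
    by_cases hj : j = i₀
    · rw [show e j = 1 by simp [e, hj], mul_one]
      exact Submodule.subset_span ⟨i, rfl⟩
    simp only [e, hi, hj, if_false]
    rw [show algebraMap D L s * b i * (algebraMap D L s * b j) =
        algebraMap D L s * algebraMap D L s * (b i * b j) by ring, ← b.sum_repr (b i * b j), Finset.mul_sum]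
    refine Submodule.sum_mem M fun k _ => ?_
    obtain ⟨d, hd⟩ := hsint (i, j, k)
    simp only at hd
    have e1 : algebraMap D L d = algebraMap D L s * algebraMap K L (b.repr (b i * b j) k) := by
      rw [IsScalarTower.algebraMap_apply D K L, hd, Algebra.smul_def, map_mul, ← IsScalarTower.algebraMap_apply]
    have := hmono d k
    rw [e1] at this
    rw [Algebra.smul_def]
    convert this using 1
    ring
  have hM : ∀ x y, x ∈ M → y ∈ M → x * y ∈ M := fun x y hx hy => by
    have : M * M ≤ M := by
      rw [Submodule.span_mul_span, Submodule.span_le]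
      rintro _ ⟨_, ⟨i, rfl⟩, _, ⟨j, rfl⟩, rfl⟩
      exact hmul i j
    exact this (Submodule.mul_mem_mul hx hy)
  let D' : Subalgebra D L := M.toSubalgebra h1 hM
  have hw : ∀ i : ι, (if i = i₀ then (1 : K) else algebraMap D K s) ≠ 0 := fun i => by
    split
    · exact one_ne_zero
    · exact IsFractionRing.to_map_ne_zero_of_mem_nonZeroDivisors hs
  have hind : LinearIndependent D e := by
    have h2 : LinearIndependent K e := by
      have h3 := b.linearIndependent.units_smul fun i => Units.mk0 _ (hw i)
      have : e = (fun i => Units.mk0 _ (hw i)) • ⇑b := by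
        funext i
        show e i = (if i = i₀ then (1 : K) else algebraMap D K s) • b i
        by_cases hi : i = i₀
        · subst hi
          simp [e, hb, i₀]
        · simp [e, hi, Algebra.smul_def, ← IsScalarTower.algebraMap_apply]
      rw [this]
      exact h3
    refine h2.restrict_scalars ?_
    intro a a' haa
    simpa [Algebra.smul_def] using haa
  let bM : Module.Basis ι D M := Module.Basis.span hind
  refine ⟨D', Module.Free.of_basis bM, Module.Finite.of_basis bM, fun x => ?_⟩
  obtain ⟨⟨g, hg⟩, hgint⟩ := IsLocalization.exist_integer_multiples_of_finite (nonZeroDivisors D) (fun k => b.repr x k)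
  refine ⟨g * s, mul_ne_zero (nonZeroDivisors.ne_zero hg) (nonZeroDivisors.ne_zero hs), ?_⟩
  show _ ∈ M
  rw [← b.sum_repr x, Finset.mul_sum]
  refine Submodule.sum_mem M fun k _ => ?_
  obtain ⟨d, hd⟩ := hgint k
  simp only at hd
  have e1 : algebraMap D L d = algebraMap D L g * algebraMap K L (b.repr x k) := by
    rw [IsScalarTower.algebraMap_apply D K L, hd, Algebra.smul_def, map_mul, ← IsScalarTower.algebraMap_apply]
  have := hmono d k
  rw [e1] at this
  convert this using 1
  rw [Algebra.smul_def, map_mul]
  ring

end Groth.Agent.HTopPerf
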