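import Groth.Agent.HTopPerf.Good
import Groth.Agent.HTopPerf.Order

/-!
Noetherian induction: along the base changes of a proper surjection over a Noetherian affine scheme, functions
descend up to a uniform `p`-power.
-/

set_option autoImplicit false
set_option backward.isDefEq.respectTransparency false
set_option backward.isDefEq.respectTransparency.types false
set_option linter.style.haveILetI false

universe u

open CategoryTheory Limits AlgebraicGeometry Opposite Polynomial

namespace Groth.Agent.HTopPerf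

variable {R₀ : CommRingCat.{u}} {Y : Scheme.{u}} {f : Y ⟶ Spec R₀} {p : ℕ}

/-- The structure map of an affine open. -/
noncomputable abbrev str (f : Y ⟶ Spec R₀) (U : Y.affineOpens) : R₀ ⟶ Γ(Y, U.1) :=
  Spec.preimage (U.2.fromSpec ≫ f)

theorem str_spec (U : Y.affineOpens) : Spec.map (str f U) = U.2.fromSpec ≫ f := Spec.map_preimage _

theorem exists_generators [LocallyOfFiniteType f] (U : Y.affineOpens) :
    ∃ G : Finset Γ(Y, U.1), Subring.closure (Set.range (str f U) ∪ ↑G) = ⊤ := by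
  letI := (str f U).hom.toAlgebra
  have h : (str f U).hom.FiniteType := by
    rw [← HasRingHomProperty.Spec_iff (P := @LocallyOfFiniteType), str_spec]
    infer_instance
  obtain ⟨G, hG⟩ := Algebra.FiniteType.out (self := (h : Algebra.FiniteType R₀ Γ(Y, U.1)))
  refine ⟨G, ?_⟩
  have := congrArg Subalgebra.toSubring hG
  rwa [Algebra.adjoin_eq_ring_closure, Algebra.top_toSubring] at this

theorem exists_affineOpens_finset (Y : Scheme.{u}) [CompactSpace Y] :
    ∃ s : Finset Y.affineOpens, ∀ y : Y, ∃ U ∈ s, y ∈ U.1 := by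
  obtain ⟨t, ht⟩ := isCompact_univ.elim_finite_subcover (fun U : Y.affineOpens => (U.1 : Set Y)) (fun U => U.1.2)
    fun y _ => by
      obtain ⟨U, hU⟩ := TopologicalSpace.Opens.mem_iSup.mp ((iSup_affineOpens_eq_top Y).ge (Set.mem_univ y))
      exact Set.mem_iUnion.mpr ⟨U, hU⟩
  refine ⟨t, fun y => ?_⟩
  obtain ⟨U, hU, hy⟩ := Set.mem_iUnion₂.mp (ht (Set.mem_univ y))
  exact ⟨U, hU, hy⟩

set_option synthInstance.maxHeartbeats 200000 in
/-- A point of a finite type surjection over a given prime with finite residue field extension. -/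
theorem exists_generic_point [LocallyOfFiniteType f] [Surjective f] (I : Ideal R₀) [I.IsPrime] :
    ∃ (L : Type u) (_ : Field L) (_ : Algebra (FractionRing (R₀ ⧸ I)) L) (_ : Module.Finite (FractionRing (R₀ ⧸ I)) L)
      (η : Spec (CommRingCat.of L) ⟶ Y), η ≫ f = Spec.map (CommRingCat.ofHom
        ((algebraMap (FractionRing (R₀ ⧸ I)) L).comp
          ((algebraMap (R₀ ⧸ I) (FractionRing (R₀ ⧸ I))).comp (Ideal.Quotient.mk I)))) := by
  classical
  obtain ⟨y, hy⟩ := f.surjective ⟨I, inferInstance⟩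
  obtain ⟨U, hU⟩ := TopologicalSpace.Opens.mem_iSup.mp ((iSup_affineOpens_eq_top Y).ge (Set.mem_univ y))
  obtain ⟨P, hP⟩ : y ∈ Set.range U.2.fromSpec := by rw [U.2.range_fromSpec]; exact hU
  have hPI : P.asIdeal.comap (str f U).hom = I := by
    have e : Spec.map (str f U) P = f y := by rw [str_spec, ← hP]; rfl
    rw [hy] at e
    exact congrArg PrimeSpectrum.asIdeal e
  let Ω := P.asIdeal.ResidueField
  let ω : Γ(Y, U.1) →+* Ω := algebraMap _ Ω
  have hker : RingHom.ker (ω.comp (str f U).hom) = I := by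
    rw [← RingHom.comap_ker, show RingHom.ker ω = P.asIdeal from Ideal.ker_algebraMap_residueField _, hPI]
  let d : R₀ ⧸ I →+* Ω := Ideal.Quotient.lift I (ω.comp (str f U).hom) fun a ha => by
    rwa [← RingHom.mem_ker, hker]
  have hd : Function.Injective d := (injective_iff_map_eq_zero d).mpr fun a ha => by
    obtain ⟨a, rfl⟩ := Ideal.Quotient.mk_surjective a
    rw [Ideal.Quotient.lift_mk] at ha
    exact Ideal.Quotient.eq_zero_iff_mem.mpr (hker ▸ ha)
  letI : Algebra (FractionRing (R₀ ⧸ I)) Ω := (IsFractionRing.lift hd).toAlgebra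
  obtain ⟨G, hG⟩ := exists_generators (f := f) U
  let S : Subalgebra (FractionRing (R₀ ⧸ I)) Ω := Algebra.adjoin _ (ω '' ↑G)
  haveI : Algebra.FiniteType (FractionRing (R₀ ⧸ I)) S :=
    (Subalgebra.fg_iff_finiteType _).mp ⟨G.image ω, by rw [Finset.coe_image]⟩
  have hωc : ∀ a, ω (str f U a) = algebraMap (FractionRing (R₀ ⧸ I)) Ω
      (algebraMap (R₀ ⧸ I) _ (Ideal.Quotient.mk I a)) := fun a => by
    rw [RingHom.algebraMap_toAlgebra, IsFractionRing.lift_algebraMap]
    rfl
  have hmem : ∀ b, ω b ∈ S := fun b => by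
    have hb : b ∈ Subring.closure (Set.range (str f U) ∪ ↑G) := by rw [hG]; trivial
    induction hb using Subring.closure_induction with
    | mem x hx =>
      rcases hx with ⟨a, rfl⟩ | hx
      · rw [hωc]; exact S.algebraMap_mem _
      · exact Algebra.subset_adjoin ⟨x, hx, rfl⟩
    | zero => rw [map_zero]; exact S.zero_mem
    | one => rw [map_one]; exact S.one_mem
    | add x y _ _ hx hy => rw [map_add]; exact S.add_mem hx hy
    | neg x _ hx => rw [map_neg]; exact S.neg_mem hx
    | mul x y _ _ hx hy => rw [map_mul]; exact S.mul_mem hx hy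
  obtain ⟨m, hm⟩ := Ideal.exists_maximal S
  letI := Ideal.Quotient.field m
  let e : Γ(Y, U.1) →+* S ⧸ m := (Ideal.Quotient.mk m).comp (ω.codRestrict S.toSubring hmem)
  refine ⟨S ⧸ m, inferInstance, inferInstance,
    finite_of_finite_type_of_isJacobsonRing (FractionRing (R₀ ⧸ I)) (S ⧸ m),
    Spec.map (CommRingCat.ofHom e) ≫ U.2.fromSpec, ?_⟩
  rw [Category.assoc, ← str_spec, ← Spec.map_comp]
  congr 1
  refine CommRingCat.hom_ext (RingHom.ext fun a => ?_)
  show Ideal.Quotient.mk m ⟨ω (str f U a), hmem _⟩ = algebraMap (FractionRing (R₀ ⧸ I)) (S ⧸ m) _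
  rw [IsScalarTower.algebraMap_apply (FractionRing (R₀ ⧸ I)) S (S ⧸ m)]
  exact congrArg (Ideal.Quotient.mk m) (Subtype.ext (hωc a))

/-- Covering by two quotients with nilpotent product. -/
theorem Good.of_quotients (hp : p.Prime) {L : Type u} [CommRing L] {ρ : R₀ →+* L} (I J : Ideal L)
    (h : ∃ m, (I * J) ^ m = ⊥) (hI : Good f p ((Ideal.Quotient.mk I).comp ρ))
    (hJ : Good f p ((Ideal.Quotient.mk J).comp ρ)) : Good f p ρ :=
  Good.of_uCov hp (uCov_quotient hp I J h) fun b => match b with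
    | ⟨true⟩ => hI
    | ⟨false⟩ => hJ

/-- Goodness from goodness of the quotient by a larger ideal. -/
theorem Good.of_ideal {I' : Ideal R₀} (h : Good f p (Ideal.Quotient.mk I')) {L : Type u} [CommRing L]
    (ρ : R₀ →+* L) (hρ : I' ≤ RingHom.ker ρ) : Good f p ρ :=
  h.of_hom (Ideal.Quotient.lift I' ρ fun a ha => hρ ha) (Ideal.Quotient.lift_comp_mk _ _ _)

variable {L : Type u} [Field L]

/-- The coordinates of the point `η` in an affine open. -/
def IsCoord (η : Spec (CommRingCat.of L) ⟶ Y) (U : Y.affineOpens) (e : Γ(Y, U.1) →+* L) : Prop :=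
  Spec.map (CommRingCat.ofHom e) ≫ U.2.fromSpec = η

theorem IsCoord.eq {η : Spec (CommRingCat.of L) ⟶ Y} {U : Y.affineOpens} {e e' : Γ(Y, U.1) →+* L}
    (h : IsCoord η U e) (h' : IsCoord η U e') : e = e' :=
  congrArg CommRingCat.Hom.hom (Spec.map_injective ((cancel_mono U.2.fromSpec).mp (h.trans h'.symm)))

theorem exists_coord_finset (η : Spec (CommRingCat.of L) ⟶ Y) (s : Finset Y.affineOpens)
    (G : ∀ U : Y.affineOpens, Finset Γ(Y, U.1)) :
    ∃ T : Finset L, ∀ U ∈ s, ∀ e, IsCoord η U e → ∀ b ∈ G U, e b ≠ 0 → e b ∈ T := by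
  classical
  have h : ∀ U : Y.affineOpens, ∃ T : Finset L, ∀ e, IsCoord η U e → ∀ b ∈ G U, e b ∈ T := fun U => by
    by_cases hU : ∃ e, IsCoord η U e
    · obtain ⟨e₀, he₀⟩ := hU
      exact ⟨(G U).image e₀, fun e he b hb => Finset.mem_image.mpr ⟨b, hb, by rw [he.eq he₀]⟩⟩
    · exact ⟨∅, fun e he => absurd ⟨e, he⟩ hU⟩
  choose T hT using h
  exact ⟨s.biUnion T, fun U hU e he b hb _ => Finset.mem_biUnion.mpr ⟨U, hU, hT U e he b hb⟩⟩

/-- The last stage: a domain inside `L` with each coordinate or its inverse. -/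
theorem good_of_injective (hp : p.Prime) [UniversallyClosed f] [QuasiCompact f]
    (s : Finset Y.affineOpens) (hs : ∀ y : Y, ∃ U ∈ s, y ∈ U.1) (G : ∀ U : Y.affineOpens, Finset Γ(Y, U.1))
    (hG : ∀ U, Subring.closure (Set.range (str f U) ∪ ↑(G U)) = ⊤)
    (η : Spec (CommRingCat.of L) ⟶ Y) {M : Type u} [CommRing M] (ρ : R₀ →+* M) (χ : M →+* L)
    (hχ : Function.Injective χ) (hη : η ≫ f = Spec.map (CommRingCat.ofHom (χ.comp ρ)))
    (hT : ∀ U ∈ s, ∀ e, IsCoord η U e → ∀ b ∈ G U, e b ≠ 0 → e b ∈ χ.range ∨ (e b)⁻¹ ∈ χ.range) :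
    Good f p ρ := by
  classical
  let H : Set M := {h | Good f p ((algebraMap M (Localization.Away h)).comp ρ)}
  suffices hH : Ideal.span H = ⊤ by
    obtain ⟨t, htH, ht⟩ := (Ideal.span_eq_top_iff_finite H).mp hH
    let hh : ↥(t : Set M) → M := fun i => i.1
    exact Good.of_uCov hp (uCov_away hh (by
      rw [show Set.range hh = (t : Set M) from Subtype.range_coe]; exact ht)) fun i => htH i.2
  by_contra hne
  obtain ⟨P, hPmax, hPle⟩ := Ideal.exists_le_maximal _ hne
  let Loc := Localization.AtPrime P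
  have hunit : ∀ x : P.primeCompl, IsUnit (χ x.1) := fun x =>
    isUnit_iff_ne_zero.mpr fun h0 => x.2 (by rw [hχ (h0.trans (map_zero χ).symm)]; exact P.zero_mem)
  let χP : Loc →+* L := IsLocalization.lift hunit
  obtain ⟨V, hV, hloc⟩ := IsLocalRing.exists_factor_valuationRing χP
  let ψ : Loc →+* V := χP.codRestrict V.toSubring hV
  haveI : IsLocalHom ψ := hloc
  let ρV : R₀ →+* V := ψ.comp ((algebraMap M Loc).comp ρ)
  have hρV : (algebraMap V L).comp ρV = χ.comp ρ := RingHom.ext fun a => IsLocalization.lift_eq hunit (ρ a)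
  let S : ValuativeCommSq f :=
    { R := V, K := L, i₁ := η, i₂ := Spec.map (CommRingCat.ofHom ρV)
      commSq := ⟨by rw [hη, ← Spec.map_comp, ← hρV]; rfl⟩ }
  haveI : S.commSq.HasLift := by
    have h := (‹UniversallyClosed f› : UniversallyClosed f)
    rw [UniversallyClosed.eq_valuativeCriterion] at h
    exact h.1 S
  let l : Spec (CommRingCat.of V) ⟶ Y := S.commSq.lift
  have hl1 : Spec.map (CommRingCat.ofHom (algebraMap V L)) ≫ l = η := S.commSq.fac_left
  have hl2 : l ≫ f = Spec.map (CommRingCat.ofHom ρV) := S.commSq.fac_right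
  obtain ⟨U, hUs, hyU⟩ := hs (l (IsLocalRing.closedPoint V))
  have hrange : Set.range l ⊆ Set.range U.2.fromSpec := by
    rintro _ ⟨v, rfl⟩
    rw [U.2.range_fromSpec]
    exact ((IsLocalRing.specializes_closedPoint v).map l.continuous).mem_open U.1.2 hyU
  let εU : Γ(Y, U.1) ⟶ CommRingCat.of V := Spec.preimage (IsOpenImmersion.lift U.2.fromSpec l hrange)
  have hεU : Spec.map εU ≫ U.2.fromSpec = l := by rw [Spec.map_preimage, IsOpenImmersion.lift_fac]
  let e : Γ(Y, U.1) →+* L := (algebraMap V L).comp εU.hom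
  have he : IsCoord η U e := by
    show Spec.map (εU ≫ CommRingCat.ofHom (algebraMap V L)) ≫ _ = η
    rw [Spec.map_comp, Category.assoc, hεU, hl1]
  have hec : ∀ a, e (str f U a) = χ (ρ a) := fun a => by
    have e1 : str f U ≫ εU = CommRingCat.ofHom ρV := by
      apply Spec.map_injective
      rw [Spec.map_comp, str_spec, reassoc_of% hεU, hl2]
    show algebraMap V L ((str f U ≫ εU) a) = _
    rw [e1]
    exact RingHom.congr_fun hρV a
  have hm : ∀ b ∈ G U, e b ∉ χ.range → ∃ m, m ∉ P ∧ χ m = (e b)⁻¹ := fun b hb hnot => by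
    have h0 : e b ≠ 0 := fun h0 => hnot (h0 ▸ χ.range.zero_mem)
    obtain ⟨m, hm⟩ := (hT U hUs e he b hb h0).resolve_left hnot
    refine ⟨m, fun hmP => ?_, hm⟩
    have hu : IsUnit (ψ (algebraMap M Loc m)) := IsUnit.of_mul_eq_one (εU b) (Subtype.ext (by
      show χP (algebraMap M Loc m) * e b = 1
      rw [IsLocalization.lift_eq, hm, inv_mul_cancel₀ h0]))
    exact (IsLocalization.AtPrime.isUnit_to_map_iff Loc P m).mp (IsUnit.of_map ψ _ hu) hmP
  choose! m hmP hmχ using hm
  let h := ∏ b ∈ (G U).filter (fun b => e b ∉ χ.range), m b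
  have hhP : h ∉ P := by
    have : h ∈ P.primeCompl := prod_mem fun b hb => hmP b (Finset.mem_filter.mp hb).1 (Finset.mem_filter.mp hb).2
    exact this
  refine hhP (hPle (Ideal.subset_span ?_))
  have hhu : IsUnit (χ h) := hunit ⟨h, hhP⟩
  let χh : Localization.Away h →+* L := IsLocalization.Away.lift h hhu
  have hχh : ∀ x, χh (algebraMap M _ x) = χ x := fun x => IsLocalization.Away.lift_eq h hhu x
  have hχhinj : Function.Injective χh := (injective_iff_map_eq_zero χh).mpr fun z hz => by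
    obtain ⟨⟨x, t⟩, hx⟩ := IsLocalization.surj (Submonoid.powers h) z
    have : χ x = 0 := by rw [← hχh, ← hx, map_mul, hz, zero_mul]
    rw [hχ (this.trans (map_zero χ).symm), map_zero] at hx
    exact (IsLocalization.map_units (Localization.Away h) t).mul_left_eq_zero.mp hx
  have hmem : ∀ b, e b ∈ χh.range := fun b => by
    have hb : b ∈ Subring.closure (Set.range (str f U) ∪ ↑(G U)) := by rw [hG]; trivial
    induction hb using Subring.closure_induction with
    | mem x hx =>
      rcases hx with ⟨a, rfl⟩ | hx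
      · exact ⟨algebraMap M _ (ρ a), by rw [hχh, hec]⟩
      · by_cases hr : e x ∈ χ.range
        · obtain ⟨m', hm'⟩ := hr
          exact ⟨algebraMap M _ m', by rw [hχh, hm']⟩
        · have hu : IsUnit (algebraMap M (Localization.Away h) (m x)) := isUnit_of_dvd_unit
            (map_dvd _ (Finset.dvd_prod_of_mem m (Finset.mem_filter.mpr ⟨hx, hr⟩)))
            (IsLocalization.Away.algebraMap_isUnit h)
          refine ⟨↑hu.unit⁻¹, ?_⟩
          rw [map_units_inv, IsUnit.unit_spec, hχh, hmχ x hx hr, inv_inv]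
    | zero => rw [map_zero]; exact zero_mem _
    | one => rw [map_one]; exact one_mem _
    | add x y _ _ hx hy => rw [map_add]; exact add_mem hx hy
    | neg x _ hx => rw [map_neg]; exact neg_mem hx
    | mul x y _ _ hx hy => rw [map_mul]; exact mul_mem hx hy
  let δ : Γ(Y, U.1) →+* Localization.Away h :=
    (RingEquiv.ofLeftInverse (Function.leftInverse_invFun hχhinj)).symm.toRingHom.comp (e.codRestrict χh.range hmem)
  have hδ : ∀ b, χh (δ b) = e b := fun b =>
    congrArg Subtype.val ((RingEquiv.ofLeftInverse (Function.leftInverse_invFun hχhinj)).apply_symm_apply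
      (e.codRestrict χh.range hmem b))
  refine Good.of_section (Spec.map (CommRingCat.ofHom δ) ≫ U.2.fromSpec) ?_
  rw [Category.assoc, ← str_spec, ← Spec.map_comp]
  congr 1
  refine CommRingCat.hom_ext (RingHom.ext fun a => hχhinj ?_)
  show χh (δ (str f U a)) = χh (algebraMap M _ (ρ a))
  rw [hδ, hec, hχh]

/-- The dichotomy tree. -/
theorem good_of_birational (hp : p.Prime) [UniversallyClosed f] [QuasiCompact f] {I : Ideal R₀} [I.IsPrime]
    (IH : ∀ I' : Ideal R₀, I < I' → Good f p (Ideal.Quotient.mk I'))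
    (s : Finset Y.affineOpens) (hs : ∀ y : Y, ∃ U ∈ s, y ∈ U.1) (G : ∀ U : Y.affineOpens, Finset Γ(Y, U.1))
    (hG : ∀ U, Subring.closure (Set.range (str f U) ∪ ↑(G U)) = ⊤)
    (η : Spec (CommRingCat.of L) ⟶ Y) {D : Type u} [CommRing D] [IsNoetherianRing D] (ρ : R₀ →+* D) (j : D →+* L)
    (hj : Function.Injective j) (hρI : I ≤ RingHom.ker ρ)
    (hη : η ≫ f = Spec.map (CommRingCat.ofHom (j.comp ρ)))
    (hfrac : ∀ x : L, ∃ r : R₀, r ∉ I ∧ j (ρ r) * x ∈ j.range) (hne : ∀ r : R₀, r ∉ I → j (ρ r) ≠ 0) :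
    Good f p ρ := by
  classical
  obtain ⟨T₀, hT₀⟩ := exists_coord_finset η s G
  let T := T₀.erase 0
  choose r hr hrx using hfrac
  let g := ∏ x ∈ T, r x * r x⁻¹
  have hg : g ∉ I := by
    have : g ∈ I.primeCompl := prod_mem fun x _ => mul_mem (show r x ∈ I.primeCompl from hr x)
      (show r x⁻¹ ∈ I.primeCompl from hr x⁻¹)
    exact this
  have hjg : j (ρ g) ≠ 0 := hne g hg
  have hfr : ∀ x ∈ T, (∃ a, j a = j (ρ g) * x) ∧ ∃ a, j a = j (ρ g) * x⁻¹ := fun x hx => by
    have hdvd : r x * r x⁻¹ ∣ g := Finset.dvd_prod_of_mem (fun x => r x * r x⁻¹) hx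
    obtain ⟨c, hc⟩ := hdvd
    obtain ⟨a₁, ha₁⟩ := hrx x
    obtain ⟨a₂, ha₂⟩ := hrx x⁻¹
    exact ⟨⟨ρ (r x⁻¹) * ρ c * a₁, by simp only [map_mul, ha₁, hc]; ring⟩,
      ⟨ρ (r x) * ρ c * a₂, by simp only [map_mul, ha₂, hc]; ring⟩⟩
  suffices key : ∀ (l : List L), (∀ x ∈ l, x ∈ T) → ∀ (M : Type u) [CommRing M] [IsNoetherianRing M]
      (i : D →+* M) (χ : M →+* L), χ.comp i = j → (∀ m, ∃ k, i (ρ g) ^ k * m ∈ i.range) →
      (∀ x ∈ T, x ∈ l ∨ x ∈ χ.range ∨ x⁻¹ ∈ χ.range) → Good f p (i.comp ρ) by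
    simpa using key T.toList (fun x hx => Finset.mem_toList.mp hx) D (RingHom.id D) j (RingHom.comp_id j)
      (fun m => ⟨0, m, by simp⟩) (fun x hx => .inl (Finset.mem_toList.mpr hx))
  intro l
  induction l with
  | nil =>
    intro _ M _ _ i χ hi hk hc
    obtain ⟨t, ht⟩ := (IsNoetherian.noetherian (RingHom.ker χ) : (RingHom.ker χ).FG)
    have h0 : ∀ m ∈ RingHom.ker χ, ∃ k, i (ρ g) ^ k * m = 0 := fun m hm => by
      obtain ⟨k, d, hd⟩ := hk m
      refine ⟨k, ?_⟩
      have : j d = 0 := by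
        rw [← hi, RingHom.comp_apply, hd, map_mul, show χ m = 0 from hm, mul_zero]
      rw [← hd, hj (this.trans (map_zero j).symm), map_zero]
    choose! k hk0 using h0
    let K := t.sup k
    have hK : RingHom.ker χ * Ideal.span {i (ρ g) ^ K} = ⊥ := by
      rw [← ht, Submodule.span_mul_span, eq_bot_iff, Submodule.span_le]
      rintro _ ⟨a, ha, _, rfl, rfl⟩
      have ha' : a ∈ RingHom.ker χ := ht ▸ Submodule.subset_span ha
      show a * i (ρ g) ^ K = 0
      rw [mul_comm, show K = (K - k a) + k a from (Nat.sub_add_cancel (Finset.le_sup (f := k) ha)).symm, pow_add,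
        mul_assoc, hk0 a ha', mul_zero]
    refine Good.of_quotients hp (RingHom.ker χ) (Ideal.span {i (ρ g) ^ K}) ⟨1, by rw [pow_one, hK]⟩ ?_ ?_
    · refine good_of_injective hp s hs G hG η _ (RingHom.kerLift χ) (RingHom.kerLift_injective χ) ?_ ?_
      · rw [hη, ← hi]
        rfl
      · intro U hU e he b hb hb0
        have hmem : e b ∈ T := Finset.mem_erase.mpr ⟨hb0, hT₀ U hU e he b hb hb0⟩
        rcases (hc _ hmem).resolve_left List.not_mem_nil with ⟨m, hm⟩ | ⟨m, hm⟩
        · exact .inl ⟨Ideal.Quotient.mk _ m, hm⟩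
        · exact .inr ⟨Ideal.Quotient.mk _ m, hm⟩
    · refine Good.of_ideal (IH (I ⊔ Ideal.span {g ^ K}) ?_) _ ?_
      · refine left_lt_sup.mpr fun hle => hg ?_
        exact ‹I.IsPrime›.mem_of_pow_mem K (hle (Ideal.mem_span_singleton_self _))
      · refine sup_le (fun a ha => ?_) ((Ideal.span_singleton_le_iff_mem _).mpr ?_)
        · show Ideal.Quotient.mk _ (i (ρ a)) = 0
          rw [show ρ a = 0 from hρI ha, map_zero, map_zero]
        · show Ideal.Quotient.mk _ (i (ρ (g ^ K))) = 0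
          rw [map_pow, map_pow]
          exact Ideal.Quotient.eq_zero_iff_mem.mpr (Ideal.mem_span_singleton_self _)
  | cons x l ihl =>
    intro hl M _ _ i χ hi hk hc
    have hx := hl x List.mem_cons_self
    have hx0 : x ≠ 0 := Finset.ne_of_mem_erase hx
    obtain ⟨⟨a, ha⟩, a', ha'⟩ := hfr x hx
    have haa : a * a' = ρ g * ρ g := hj (by rw [map_mul, map_mul, ha, ha']; field_simp)
    have hclosed : ∀ (P : M[X]) (u : AdjoinRoot P), (∃ k, ((AdjoinRoot.of P).comp i) (ρ g) ^ k * AdjoinRoot.root P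
        ∈ ((AdjoinRoot.of P).comp i).range) →
        ∃ k, ((AdjoinRoot.of P).comp i) (ρ g) ^ k * u ∈ ((AdjoinRoot.of P).comp i).range := by
      intro P u hroot
      let J := ((AdjoinRoot.of P).comp i)
      have key : ∀ q : M[X], ∃ k, J (ρ g) ^ k * AdjoinRoot.mk P q ∈ J.range := fun q => by
        induction q using Polynomial.induction_on with
        | C m =>
          obtain ⟨k, d, hd⟩ := hk m
          exact ⟨k, d, by show AdjoinRoot.of P (i d) = _; rw [hd, map_mul, map_pow]; rfl⟩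
        | add q₁ q₂ h₁ h₂ =>
          obtain ⟨k₁, h₁⟩ := h₁
          obtain ⟨k₂, h₂⟩ := h₂
          refine ⟨k₁ + k₂, ?_⟩
          rw [map_add, mul_add, pow_add]
          refine add_mem ?_ ?_
          · rw [mul_assoc, mul_left_comm]
            exact mul_mem (pow_mem (show J (ρ g) ∈ J.range from ⟨_, rfl⟩) _) h₁
          · rw [mul_assoc]
            exact mul_mem (pow_mem (show J (ρ g) ∈ J.range from ⟨_, rfl⟩) _) h₂
        | monomial n m ih =>
          obtain ⟨k₁, h₁⟩ := ih
          obtain ⟨k₂, h₂⟩ := hroot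
          refine ⟨k₁ + k₂, ?_⟩
          rw [pow_succ, ← mul_assoc, map_mul, AdjoinRoot.mk_X, pow_add, mul_mul_mul_comm]
          exact mul_mem h₁ h₂
      obtain ⟨q, rfl⟩ := AdjoinRoot.mk_surjective u
      exact key q
    let P₁ : M[X] := Polynomial.C (i (ρ g)) * X - Polynomial.C (i a)
    let P₂ : M[X] := Polynomial.C (i a) * X - Polynomial.C (i (ρ g))
    have hχi : ∀ d, χ (i d) = j d := fun d => RingHom.congr_fun hi d
    refine Good.of_uCov hp (uCov_dichotomy hp (i a) (i (ρ g))) fun b => match b with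
      | ⟨true⟩ => ?_
      | ⟨false⟩ => ?_
    · have h0 : P₁.eval₂ χ x = 0 := by simp [P₁, hχi, ha]
      refine ihl (fun y hy => hl y (List.mem_cons_of_mem _ hy)) (AdjoinRoot P₁) ((AdjoinRoot.of P₁).comp i)
        (AdjoinRoot.lift χ x h0) (RingHom.ext fun d => (AdjoinRoot.lift_of h0).trans (hχi d)) ?_ ?_
      · intro u
        refine hclosed P₁ u ⟨1, a, ?_⟩
        have := AdjoinRoot.eval₂_root P₁
        simp [P₁, sub_eq_zero] at this
        simpa using this.symm
      · intro y hy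
        rcases hc y hy with h | h | h
        · rcases List.mem_cons.mp h with rfl | h
          · exact .inr (.inl ⟨AdjoinRoot.root P₁, AdjoinRoot.lift_root h0⟩)
          · exact .inl h
        · obtain ⟨m, hm⟩ := h
          exact .inr (.inl ⟨AdjoinRoot.of P₁ m, by rw [AdjoinRoot.lift_of h0, hm]⟩)
        · obtain ⟨m, hm⟩ := h
          exact .inr (.inr ⟨AdjoinRoot.of P₁ m, by rw [AdjoinRoot.lift_of h0, hm]⟩)
    · have h0 : P₂.eval₂ χ x⁻¹ = 0 := by simp [P₂, hχi, ha, mul_assoc, mul_inv_cancel₀ hx0]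
      refine ihl (fun y hy => hl y (List.mem_cons_of_mem _ hy)) (AdjoinRoot P₂) ((AdjoinRoot.of P₂).comp i)
        (AdjoinRoot.lift χ x⁻¹ h0) (RingHom.ext fun d => (AdjoinRoot.lift_of h0).trans (hχi d)) ?_ ?_
      · intro u
        refine hclosed P₂ u ⟨2, a' * ρ g, ?_⟩
        have := AdjoinRoot.eval₂_root P₂
        simp [P₂, sub_eq_zero] at this
        simp only [RingHom.comp_apply, map_mul]
        have e2 := congrArg (fun d => AdjoinRoot.of P₂ (i d)) haa
        simp only [map_mul] at e2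
        linear_combination -(AdjoinRoot.of P₂ (i a')) * this + AdjoinRoot.root P₂ * e2
      · intro y hy
        rcases hc y hy with h | h | h
        · rcases List.mem_cons.mp h with rfl | h
          · exact .inr (.inr ⟨AdjoinRoot.root P₂, AdjoinRoot.lift_root h0⟩)
          · exact .inl h
        · obtain ⟨m, hm⟩ := h
          exact .inr (.inl ⟨AdjoinRoot.of P₂ m, by rw [AdjoinRoot.lift_of h0, hm]⟩)
        · obtain ⟨m, hm⟩ := h
          exact .inr (.inr ⟨AdjoinRoot.of P₂ m, by rw [AdjoinRoot.lift_of h0, hm]⟩)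

/-- Along a proper surjection over a Noetherian affine scheme, functions descend up to a uniform `p`-power after
every base change. -/
theorem good_of_isNoetherianRing (hp : p.Prime) [IsNoetherianRing R₀] [IsProper f] [Surjective f] :
    Good f p (RingHom.id R₀) := by
  classical
  haveI : CompactSpace Y := QuasiCompact.compactSpace_of_compactSpace f
  obtain ⟨s, hs⟩ := exists_affineOpens_finset Y
  choose G hG using exists_generators (f := f)
  suffices ∀ I : Ideal R₀, Good f p (Ideal.Quotient.mk I) by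
    refine Good.of_hom ((Ideal.Quotient.lift (⊥ : Ideal R₀) (RingHom.id R₀) fun a ha => ha)) ?_ (this ⊥)
    exact Ideal.Quotient.lift_comp_mk _ _ _
  intro I
  induction I using WellFoundedGT.induction with
  | _ I IH =>
  by_cases htop : I = ⊤
  · haveI : Subsingleton (R₀ ⧸ I) := Ideal.Quotient.subsingleton_iff.mpr htop
    exact Good.of_subsingleton hp _
  by_cases hpr : I.IsPrime
  · haveI := hpr
    obtain ⟨L, _, _, _, η, hη⟩ := exists_generic_point (f := f) I
    letI : Algebra (R₀ ⧸ I) L :=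
      ((algebraMap (FractionRing (R₀ ⧸ I)) L).comp (algebraMap (R₀ ⧸ I) _)).toAlgebra
    haveI : IsScalarTower (R₀ ⧸ I) (FractionRing (R₀ ⧸ I)) L := IsScalarTower.of_algebraMap_eq fun _ => rfl
    obtain ⟨D', hfree, hfin, hfr⟩ := exists_free_order (D := R₀ ⧸ I) (K := FractionRing (R₀ ⧸ I)) (L := L)
    haveI := hfree
    haveI := hfin
    haveI : Module.FaithfullyFlat (R₀ ⧸ I) D' := inferInstance
    haveI : IsNoetherianRing D' := IsNoetherianRing.of_finite (R₀ ⧸ I) D'
    refine Good.of_uCov hp (uCov_faithfullyFlat (L := R₀ ⧸ I) (L₁ := D')) fun _ => ?_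
    refine good_of_birational hp (I := I) IH s hs G hG η _ D'.val.toRingHom Subtype.val_injective ?_ ?_ ?_ ?_
    · intro a ha
      show algebraMap (R₀ ⧸ I) D' (Ideal.Quotient.mk I a) = 0
      rw [Ideal.Quotient.eq_zero_iff_mem.mpr ha, map_zero]
    · rw [hη]
      rfl
    · intro x
      obtain ⟨g, hg, hgx⟩ := hfr x
      obtain ⟨r, rfl⟩ := Ideal.Quotient.mk_surjective g
      exact ⟨r, fun hr => hg (Ideal.Quotient.eq_zero_iff_mem.mpr hr), ⟨⟨_, hgx⟩, rfl⟩⟩
    · intro r hr h0
      refine hr (Ideal.Quotient.eq_zero_iff_mem.mp ?_)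
      have h1 : algebraMap (FractionRing (R₀ ⧸ I)) L (algebraMap (R₀ ⧸ I) _ (Ideal.Quotient.mk I r)) = 0 := h0
      exact IsFractionRing.injective (R₀ ⧸ I) (FractionRing (R₀ ⧸ I))
        (((map_eq_zero _).mp h1).trans (map_zero _).symm)
  · rw [Ideal.isPrime_iff] at hpr
    push Not at hpr
    obtain ⟨x, y, hxy, hx, hy⟩ := hpr htop
    refine Good.of_quotients hp (Ideal.span {Ideal.Quotient.mk I x}) (Ideal.span {Ideal.Quotient.mk I y})
      ⟨1, ?_⟩ ?_ ?_
    · rw [pow_one, Ideal.span_singleton_mul_span_singleton, ← map_mul, Ideal.Quotient.eq_zero_iff_mem.mpr hxy,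
        Ideal.span_singleton_eq_bot.mpr rfl]
    · refine Good.of_ideal (IH (I ⊔ Ideal.span {x}) (left_lt_sup.mpr fun h => hx (h (Ideal.mem_span_singleton_self _))))
        _ (sup_le (fun a ha => ?_) ((Ideal.span_singleton_le_iff_mem _).mpr ?_))
      · show Ideal.Quotient.mk _ (Ideal.Quotient.mk I a) = 0
        rw [Ideal.Quotient.eq_zero_iff_mem.mpr ha, map_zero]
      · exact Ideal.Quotient.eq_zero_iff_mem.mpr (Ideal.mem_span_singleton_self _)
    · refine Good.of_ideal (IH (I ⊔ Ideal.span {y}) (left_lt_sup.mpr fun h => hy (h (Ideal.mem_span_singleton_self _))))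
        _ (sup_le (fun a ha => ?_) ((Ideal.span_singleton_le_iff_mem _).mpr ?_))
      · show Ideal.Quotient.mk _ (Ideal.Quotient.mk I a) = 0
        rw [Ideal.Quotient.eq_zero_iff_mem.mpr ha, map_zero]
      · exact Ideal.Quotient.eq_zero_iff_mem.mpr (Ideal.mem_span_singleton_self _)

end Groth.Agent.HTopPerf
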