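import Groth.Agent.HTopPerf.Induct
import Groth.Agent.ConsPropLib.NoethApprox
import Groth.Agent.SubtrRef.Stage
import Groth.Agent.HTopCov.OverCriterion
import Groth.Prelude.Def_W4stkflatFrob

/-!
The inverse limit of global functions along the Frobenius is a sheaf for the h topology.
-/

set_option autoImplicit false
set_option backward.isDefEq.respectTransparency false
set_option backward.isDefEq.respectTransparency.types false
set_option linter.style.haveILetI false

universe u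

open CategoryTheory Limits AlgebraicGeometry Opposite HTop

namespace Groth.Agent.HTopPerf

/-- Along a proper surjection of finite presentation to an affine scheme of characteristic `p`, functions descend
up to a uniform `p`-power. -/
theorem exists_uniform {p : ℕ} (hp : p.Prime) {U V : Scheme.{u}} [IsAffine U] (π : V ⟶ U) [IsProper π]
    [Surjective π] [LocallyOfFinitePresentation π] (hU : (p : Γ(U, ⊤)) = 0) :
    ∃ N : ℕ, (∀ a : Γ(U, ⊤), π.appTop a = 0 → a ^ p ^ N = 0) ∧
      ∀ b : Γ(V, ⊤), (pullback.fst π π).appTop b = (pullback.snd π π).appTop b →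
        ∃ a, π.appTop a = b ^ p ^ N := by
  obtain ⟨I, _, _, D, c, hc, e, hA, hN⟩ := ConsPropLib.exists_noetherian_limit U
  haveI := hA
  haveI := hN
  haveI : ∀ (i j : I) (φ : i ⟶ j), IsAffineHom (D.map φ) := fun i j φ => isAffineHom_of_isAffine _
  obtain ⟨i, S₀, g₀, qS, hsq, hg₁, hg₂, -⟩ := SubtrRef.exists_proper_model D c hc (π ≫ e.inv)
  haveI := hg₁; haveI := hg₂
  let T := D.obj i
  haveI : IsAffine T := hA i
  haveI : IsLocallyNoetherian T := (hN i).toIsLocallyNoetherian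
  haveI : IsNoetherianRing Γ(T, ⊤) := IsLocallyNoetherian.component_noetherian ⟨⊤, isAffineOpen_top T⟩
  let f : S₀ ⟶ Spec Γ(T, ⊤) := g₀ ≫ T.isoSpec.hom
  obtain ⟨N, hgood⟩ := good_of_isNoetherianRing (f := f) hp
  let h : Γ(T, ⊤) ⟶ Γ(U, ⊤) := (e.inv ≫ c.π.app i).appTop
  obtain ⟨hker, hdesc⟩ := hgood Γ(U, ⊤) h.hom hU
  let g : Γ(T, ⊤) →+* Γ(U, ⊤) := h.hom.comp (RingHom.id _)
  have hnat : U.isoSpec.hom ≫ Spec.map (CommRingCat.ofHom g) = (e.inv ≫ c.π.app i) ≫ T.isoSpec.hom :=
    Scheme.isoSpec_hom_naturality (e.inv ≫ c.π.app i)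
  have hP : IsPullback qS (π ≫ U.isoSpec.hom) f (Spec.map (CommRingCat.ofHom g)) := by
    refine hsq.of_iso (Iso.refl _) (Iso.refl _) (e ≪≫ U.isoSpec) T.isoSpec (by simp) ?_ (by simp [f]) ?_
    · simp
    · rw [Iso.trans_hom, Category.assoc, hnat]
      simp
  let θ : V ⟶ BC f g := hP.isoPullback.hom
  have hθ : θ ≫ pullback.snd f (Spec.map (CommRingCat.ofHom g)) = π ≫ U.isoSpec.hom := hP.isoPullback_hom_snd
  haveI : IsIso θ := inferInstanceAs (IsIso hP.isoPullback.hom)
  have htop : (Scheme.ΓSpecIso Γ(U, ⊤)).inv ≫ U.isoSpec.hom.appTop = 𝟙 _ := by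
    rw [Scheme.isoSpec_hom, Scheme.toSpecΓ_appTop, Iso.inv_hom_id]
  have heta : ∀ a, θ.appTop (eta f g a) = π.appTop a := fun a => by
    show ((Scheme.ΓSpecIso Γ(U, ⊤)).inv ≫
      (pullback.snd f (Spec.map (CommRingCat.ofHom g))).appTop ≫ θ.appTop) a = π.appTop a
    rw [← Scheme.Hom.comp_appTop, hθ, Scheme.Hom.comp_appTop, reassoc_of% htop]
  have hinj : Function.Injective θ.appTop := (ConcreteCategory.bijective_of_isIso θ.appTop).1
  refine ⟨N, fun a ha => hker a (hinj (by rw [heta, ha, map_zero])), fun b hb => ?_⟩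
  obtain ⟨b', rfl⟩ := (ConcreteCategory.bijective_of_isIso θ.appTop).2 b
  have heq : Equalized f g b' := by
    let π' := pullback.snd f (Spec.map (CommRingCat.ofHom g))
    let m : pullback π π ⟶ pullback π' π' := pullback.map π π π' π' θ θ U.isoSpec.hom hθ.symm hθ.symm
    haveI : IsIso m := inferInstanceAs (IsIso (pullback.map π π π' π' θ θ U.isoSpec.hom _ _))
    refine (ConcreteCategory.bijective_of_isIso m.appTop).1 ?_
    show ((pullback.fst π' π').appTop ≫ m.appTop) b' = ((pullback.snd π' π').appTop ≫ m.appTop) b'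
    rw [← Scheme.Hom.comp_appTop, ← Scheme.Hom.comp_appTop, pullback.lift_fst, pullback.lift_snd,
      Scheme.Hom.comp_appTop, Scheme.Hom.comp_appTop]
    exact hb
  obtain ⟨a, ha⟩ := hdesc b' heq
  exact ⟨a, by rw [← heta, ha, map_pow]⟩

/-- The presheaf of compatible sequences on all schemes. -/
def limFun (p : ℕ) : Scheme.{u}ᵒᵖ ⥤ Type u where
  obj X := FrobLimSections p X.unop
  map f := ↾fun a => FrobLimSections.map p f.unop a
  map_id X := by ext a n; simp
  map_comp f g := by ext a n; simp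

open Polynomial in
/-- Global functions satisfy the sheaf condition for the Zariski topology. -/
theorem gamma_glue {X : Scheme.{u}} (R : Sieve X) (hR : R ∈ Scheme.zariskiTopology X)
    (x : ∀ ⦃Y : Scheme.{u}⦄ (k : Y ⟶ X), R k → Γ(Y, ⊤))
    (hx : ∀ ⦃Y Z : Scheme.{u}⦄ (k : Y ⟶ X) (hk : R k) (l : Z ⟶ Y) (hlk : R (l ≫ k)),
      x (l ≫ k) hlk = l.appTop (x k hk)) :
    ∃! a : Γ(X, ⊤), ∀ ⦃Y : Scheme.{u}⦄ (k : Y ⟶ X) (hk : R k), k.appTop a = x k hk := by
  let P : CommRingCat.{u} := CommRingCat.of ((ULift.{u} ℤ)[X])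
  let Z : Scheme.{u} := Spec P
  let ev : ∀ {Y : Scheme.{u}}, (Y ⟶ Z) → Γ(Y, ⊤) := fun g => g.appTop ((Scheme.ΓSpecIso P).inv Polynomial.X)
  have hnat : ∀ {Y W : Scheme.{u}} (l : W ⟶ Y) (g : Y ⟶ Z), ev (l ≫ g) = l.appTop (ev g) := fun l g => by
    simp [ev, Scheme.Hom.comp_appTop]
  have hbij : ∀ Y : Scheme.{u}, Function.Bijective (ev (Y := Y)) := fun Y => by
    refine ⟨fun g g' hgg => ext_of_isAffine ?_, fun a => ?_⟩
    · have e : (Scheme.ΓSpecIso P).inv ≫ g.appTop = (Scheme.ΓSpecIso P).inv ≫ g'.appTop := by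
        refine CommRingCat.hom_ext (Polynomial.ringHom_ext (fun z => ?_) hgg)
        obtain ⟨n⟩ := z
        have : Polynomial.C (ULift.up n : ULift.{u} ℤ) = ((n : ℤ) : (ULift.{u} ℤ)[X]) := by
          rw [← map_intCast (Polynomial.C : ULift.{u} ℤ →+* (ULift.{u} ℤ)[X])]
          congr 1
        rw [this, map_intCast, map_intCast]
      exact (cancel_epi _).mp e
    · let φ : P ⟶ Γ(Y, ⊤) := CommRingCat.ofHom
        (Polynomial.eval₂RingHom ((Int.castRingHom Γ(Y, ⊤)).comp ULift.ringEquiv.toRingHom) a)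
      refine ⟨Y.toSpecΓ ≫ Spec.map φ, ?_⟩
      show ((Scheme.ΓSpecIso P).inv ≫ (Y.toSpecΓ ≫ Spec.map φ).appTop) Polynomial.X = a
      rw [Scheme.Hom.comp_appTop, Scheme.toSpecΓ_appTop, ← Scheme.ΓSpecIso_inv_naturality_assoc, Iso.inv_hom_id,
        Category.comp_id]
      exact Polynomial.eval₂_X _ _
  let x' : Presieve.FamilyOfElements (yoneda.obj Z) R.arrows := fun Y k hk =>
    ((hbij Y).2 (x k hk)).choose
  have hx'ev : ∀ {Y : Scheme.{u}} (k : Y ⟶ X) (hk : R k), ev (x' k hk) = x k hk := fun k hk =>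
    ((hbij _).2 (x k hk)).choose_spec
  have hcompat : x'.Compatible := by
    rw [Presieve.compatible_iff_sieveCompatible]
    intro Y W k l hk
    apply (hbij _).1
    show ev (x' _ _) = ev (l ≫ x' k hk)
    rw [hx'ev, hnat, hx'ev, hx k hk l]
  obtain ⟨t, ht, huniq⟩ := (GrothendieckTopology.Subcanonical.isSheaf_of_isRepresentable
    (J := Scheme.zariskiTopology) (yoneda.obj Z)) R hR x' hcompat
  refine ⟨ev t, fun Y k hk => ?_, fun a ha => ?_⟩
  · rw [← hnat, show k ≫ t = x' k hk from ht k hk, hx'ev]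
  · obtain ⟨t', rfl⟩ := (hbij X).2 a
    congr 1
    refine huniq t' fun Y k hk => (hbij Y).1 ?_
    show ev (k ≫ t') = _
    rw [hnat, ha k hk, hx'ev]

theorem isSheaf_limFun (p : ℕ) : Presieve.IsSheaf Scheme.zariskiTopology (limFun.{u} p) := by
  intro X R hR x hx
  rw [Presieve.compatible_iff_sieveCompatible] at hx
  have hxn : ∀ n ⦃Y W : Scheme.{u}⦄ (k : Y ⟶ X) (hk : R k) (l : W ⟶ Y) (hlk : R (l ≫ k)),
      (x (l ≫ k) hlk).1 n = l.appTop ((x k hk).1 n) := fun n Y W k hk l hlk =>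
    congrArg (fun s : FrobLimSections p W => s.1 n) (hx k l hk)
  have hg := fun n => gamma_glue R hR (fun Y k hk => (x k hk).1 n) (hxn n)
  choose a ha hua using fun n => (hg n)
  refine ⟨⟨a, fun n => hua n _ fun Y k hk => ?_⟩, fun Y k hk => FrobLimSections.ext fun n => ha n k hk, ?_⟩
  · rw [map_pow, ha (n + 1) k hk]
    exact (x k hk).2 n
  · intro s hs
    exact FrobLimSections.ext fun n => hua n _ fun Y k hk =>
      congrArg (fun t : FrobLimSections p Y => t.1 n) (hs k hk)

theorem isSheaf_over (p : ℕ) (S : Scheme.{u}) :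
    Presieve.IsSheaf (Scheme.zariskiTopology.over S) (frobLimPresheaf p S) := by
  rw [← isSheaf_iff_isSheaf_of_type]
  exact Functor.op_comp_isSheaf (Over.forget S) (Scheme.zariskiTopology.over S) Scheme.zariskiTopology
    ⟨limFun p, (isSheaf_iff_isSheaf_of_type _ _).mpr (isSheaf_limFun p)⟩

theorem isSheafFor_proper {p : ℕ} (hp : p.Prime) {S : Scheme.{u}} (hS : (p : Γ(S, ⊤)) = 0) (U V : Over S)
    (f : V ⟶ U) [IsAffine U.left] [IsProper f.left] [Surjective f.left] [LocallyOfFinitePresentation f.left] :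
    Presieve.IsSheafFor (frobLimPresheaf p S) (Presieve.singleton f) := by
  have hU : (p : Γ(U.left, ⊤)) = 0 := by rw [← map_natCast U.hom.appTop.hom, hS, map_zero]
  have hV : (p : Γ(V.left, ⊤)) = 0 := by rw [← map_natCast V.hom.appTop.hom, hS, map_zero]
  obtain ⟨N, hker, hdesc⟩ := exists_uniform hp f.left hU
  rw [Presieve.isSheafFor_singleton]
  intro s hcomp
  let W : Over S := Over.mk (pullback.fst f.left f.left ≫ V.hom)
  let p₁ : W ⟶ V := Over.homMk (pullback.fst f.left f.left) rfl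
  let p₂ : W ⟶ V := Over.homMk (pullback.snd f.left f.left) (by
    show pullback.snd f.left f.left ≫ V.hom = pullback.fst f.left f.left ≫ V.hom
    rw [← Over.w f, pullback.condition_assoc])
  have e := hcomp p₁ p₂ (Over.OverMorphism.ext pullback.condition)
  have e' : ∀ n, (pullback.fst f.left f.left).appTop (s.1 n) = (pullback.snd f.left f.left).appTop (s.1 n) := fun n =>
    congrArg (fun t : FrobLimSections p W.left => t.1 n) e
  choose c hc using fun n => hdesc (s.1 n) (e' n)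
  have hstep : ∀ n, (c (n + 1) ^ p) ^ p ^ N = c n ^ p ^ N := fun n => by
    rw [← sub_eq_zero, ← sub_pow_p hp hU]
    refine hker _ ?_
    rw [map_sub, map_pow, hc, hc, sub_eq_zero, ← pow_mul, mul_comm, pow_mul, s.2 n]
  have hsp : ∀ k n, s.1 (n + k) ^ p ^ k = s.1 n := fun k => by
    induction k with
    | zero => simp
    | succ k ih => intro n; rw [pow_succ', pow_mul, ← add_assoc, s.2, ih]
  refine ⟨⟨fun n => c (n + N + N) ^ p ^ N, fun n => ?_⟩, FrobLimSections.ext fun n => ?_, fun y hy => ?_⟩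
  · show (c (n + 1 + N + N) ^ p ^ N) ^ p = c (n + N + N) ^ p ^ N
    rw [← hstep (n + N + N), ← pow_mul, ← pow_mul, mul_comm, show n + 1 + N + N = n + N + N + 1 by omega]
  · show f.left.appTop (c (n + N + N) ^ p ^ N) = s.1 n
    rw [map_pow, hc, hsp, hsp]
  · refine FrobLimSections.ext fun n => ?_
    have hy' : ∀ m, f.left.appTop (y.1 m) = s.1 m := fun m =>
      congrArg (fun t : FrobLimSections p V.left => t.1 m) hy
    have hyp : ∀ k n, y.1 (n + k) ^ p ^ k = y.1 n := fun k => by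
      induction k with
      | zero => simp
      | succ k ih => intro n; rw [pow_succ', pow_mul, ← add_assoc, y.2, ih]
    show y.1 n = c (n + N + N) ^ p ^ N
    rw [← hyp N n, ← sub_eq_zero, ← sub_pow_p hp hU]
    refine hker _ ?_
    rw [map_sub, hy', hc, hsp, sub_self]

theorem isSheaf_Jh {p : ℕ} (hp : p.Prime) (S : Scheme.{u}) (hS : (p : Γ(S, ⊤)) = 0) :
    Presieve.IsSheaf (HTop.Jh S) (frobLimPresheaf p S) :=
  HTopCov.OverCrit.isSheaf_Jh (isSheaf_over p S) fun U V f hU hpr hsu hfp => by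
    haveI := hU; haveI := hpr; haveI := hsu; haveI := hfp
    exact isSheafFor_proper hp hS U V f

end Groth.Agent.HTopPerf
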