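import Mathlib

/-!
Elementary families of ring maps along which the structure sheaf descends up to a uniform `p`-power, after every
base change: pairs of quotients by ideals with nilpotent product, principal dichotomies, faithfully flat maps and
standard open coverings.
-/

set_option autoImplicit false

universe u

open Polynomial
open scoped TensorProduct

namespace Groth.Agent.HTopPerf

/-- After every base change `L → A` to a ring with `p = 0`, the family `l` has models `α i : A → B i`, through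
which every compatible ring under `A` factors, such that the kernel is killed by the `p ^ M`-th power and compatible
families glue up to the `p ^ M`-th power. -/
def UCov (p : ℕ) {L : Type u} [CommRing L] {ι : Type u} (L' : ι → CommRingCat.{u}) (l : ∀ i, L →+* L' i) : Prop :=
  ∃ M : ℕ, ∀ (A : Type u) [CommRing A] (φ : L →+* A), (p : A) = 0 →
    ∃ (B : ι → CommRingCat.{u}) (α : ∀ i, A →+* B i) (ψ : ∀ i, L' i →+* B i),
      (∀ i, (α i).comp φ = (ψ i).comp (l i)) ∧
      (∀ (i : ι) (C : Type u) [CommRing C] (β : A →+* C) (χ : L' i →+* C), β.comp φ = χ.comp (l i) →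
        ∃ γ : B i →+* C, γ.comp (α i) = β) ∧
      (∀ a : A, (∀ i, α i a = 0) → a ^ p ^ M = 0) ∧
      ∀ b : ∀ i, B i, (∀ (i j : ι) (C : CommRingCat.{u}) (β : B i →+* C) (β' : B j →+* C),
          β.comp (α i) = β'.comp (α j) → β (b i) = β' (b j)) → ∃ a : A, ∀ i, α i a = b i ^ p ^ M

variable {p : ℕ}

/-- A pair of rings. -/
abbrev two (X Y : CommRingCat.{u}) : ULift.{u} Bool → CommRingCat.{u}
  | ⟨true⟩ => X
  | ⟨false⟩ => Y

/-- A pair of maps out of a ring. -/
abbrev twoHom {A : Type u} [CommRing A] {X Y : CommRingCat.{u}} (x : A →+* X) (y : A →+* Y) :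
    ∀ b, A →+* two X Y b
  | ⟨true⟩ => x
  | ⟨false⟩ => y

/-- A pair of maps. -/
abbrev twoMap {X Y X' Y' : CommRingCat.{u}} (x : X →+* X') (y : Y →+* Y') : ∀ b, two X Y b →+* two X' Y' b
  | ⟨true⟩ => x
  | ⟨false⟩ => y

/-! ### Quotients -/

/-- The two quotients by ideals with nilpotent product. -/
theorem uCov_quotient (hp : p.Prime) {L : Type u} [CommRing L] (I J : Ideal L) (h : ∃ m, (I * J) ^ m = ⊥) :
    UCov p (two (CommRingCat.of (L ⧸ I)) (CommRingCat.of (L ⧸ J)))
      (twoHom (Ideal.Quotient.mk I) (Ideal.Quotient.mk J)) := by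
  obtain ⟨m, hm⟩ := h
  refine ⟨2 * m, fun A _ φ hA => ?_⟩
  refine ⟨two (CommRingCat.of (A ⧸ I.map φ)) (CommRingCat.of (A ⧸ J.map φ)),
    twoHom (Ideal.Quotient.mk _) (Ideal.Quotient.mk _),
    twoMap (Ideal.quotientMap (I.map φ) φ Ideal.le_comap_map) (Ideal.quotientMap (J.map φ) φ Ideal.le_comap_map),
    ?_, ?_, ?_, ?_⟩
  · rintro ⟨⟨⟩⟩ <;> exact (RingHom.ext fun x => rfl)
  · rintro ⟨⟨⟩⟩ C _ β χ hχ
    · refine ⟨Ideal.Quotient.lift (J.map φ) β fun a ha => ?_, RingHom.ext fun a => rfl⟩
      suffices J.map φ ≤ RingHom.ker β from this ha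
      refine Ideal.map_le_iff_le_comap.mpr fun x hx => ?_
      show β (φ x) = 0
      rw [show β (φ x) = χ (Ideal.Quotient.mk J x) from RingHom.congr_fun hχ x,
        Ideal.Quotient.eq_zero_iff_mem.mpr hx]
      exact map_zero χ
    · refine ⟨Ideal.Quotient.lift (I.map φ) β fun a ha => ?_, RingHom.ext fun a => rfl⟩
      suffices I.map φ ≤ RingHom.ker β from this ha
      refine Ideal.map_le_iff_le_comap.mpr fun x hx => ?_
      show β (φ x) = 0
      rw [show β (φ x) = χ (Ideal.Quotient.mk I x) from RingHom.congr_fun hχ x,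
        Ideal.Quotient.eq_zero_iff_mem.mpr hx]
      exact map_zero χ
  · intro a ha
    have h1 : a ∈ I.map φ := Ideal.Quotient.eq_zero_iff_mem.mp (ha ⟨true⟩)
    have h2 : a ∈ J.map φ := Ideal.Quotient.eq_zero_iff_mem.mp (ha ⟨false⟩)
    have h3 : a ^ (2 * m) ∈ ((I * J) ^ m).map φ := by
      rw [Ideal.map_pow, Ideal.map_mul, pow_mul, sq]
      exact Ideal.pow_mem_pow (Ideal.mul_mem_mul h1 h2) m
    rw [hm, Ideal.map_bot, Ideal.mem_bot] at h3
    exact pow_eq_zero_of_le (Nat.lt_pow_self hp.one_lt).le h3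
  · intro b hb
    obtain ⟨a₁, ha₁⟩ := Ideal.Quotient.mk_surjective (b ⟨true⟩)
    obtain ⟨a₂, ha₂⟩ := Ideal.Quotient.mk_surjective (b ⟨false⟩)
    have e := hb ⟨true⟩ ⟨false⟩ (CommRingCat.of (A ⧸ I.map φ ⊔ J.map φ))
      (Ideal.Quotient.factor le_sup_left) (Ideal.Quotient.factor le_sup_right) (RingHom.ext fun a => rfl)
    rw [← ha₁, ← ha₂] at e
    obtain ⟨i, hi, j, hj, hij⟩ := Submodule.mem_sup.mp (Ideal.Quotient.eq.mp (show
      Ideal.Quotient.mk (I.map φ ⊔ J.map φ) a₁ = Ideal.Quotient.mk (I.map φ ⊔ J.map φ) a₂ from e))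
    refine ⟨(a₁ - i) ^ p ^ (2 * m), ?_⟩
    rintro ⟨⟨⟩⟩
    · show Ideal.Quotient.mk (J.map φ) _ = _
      rw [map_pow, Ideal.Quotient.eq.mpr (show (a₁ - i) - a₂ ∈ J.map φ by
        rw [show a₁ - i - a₂ = j by linear_combination -hij]; exact hj), ha₂]
    · show Ideal.Quotient.mk (I.map φ) _ = _
      rw [map_pow, Ideal.Quotient.eq.mpr (show (a₁ - i) - a₁ ∈ I.map φ by
        rw [sub_sub_cancel_left]; exact neg_mem hi), ha₁]

/-! ### The dichotomy -/

open LaurentPolynomial in
theorem exists_decomp {A : Type u} [CommRing A] (R : A[T;T⁻¹]) :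
    ∃ P Q : A[X], R = toLaurent P + LaurentPolynomial.T (-1) * invert (toLaurent Q) := by
  induction R using LaurentPolynomial.induction_on' with
  | add R₁ R₂ h₁ h₂ =>
    obtain ⟨P₁, Q₁, rfl⟩ := h₁
    obtain ⟨P₂, Q₂, rfl⟩ := h₂
    exact ⟨P₁ + P₂, Q₁ + Q₂, by rw [map_add, map_add, map_add]; ring⟩
  | C_mul_T n a =>
    rcases n with k | k
    · exact ⟨Polynomial.C a * Polynomial.X ^ k, 0, by simp⟩
    · refine ⟨0, Polynomial.C a * Polynomial.X ^ k, ?_⟩
      simp only [map_zero, zero_add, map_mul, toLaurent_C, toLaurent_X_pow, invert_C, invert_T]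
      rw [mul_left_comm, ← LaurentPolynomial.T_add, Int.negSucc_eq]
      congr 2
      omega

open LaurentPolynomial in
theorem eq_C_of_toLaurent_eq_invert {A : Type u} [CommRing A] {P Q : A[X]}
    (h : toLaurent P = invert (toLaurent Q)) : ∃ a, P = Polynomial.C a ∧ Q = Polynomial.C a := by
  have aux : ∀ P Q : A[X], toLaurent P = invert (toLaurent Q) → P.natDegree = 0 := fun P Q h => by
    nontriviality A
    by_contra hP
    have e : P * Polynomial.X ^ Q.natDegree = Q.reverse := by
      apply Polynomial.toLaurent_injective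
      rw [map_mul, toLaurent_X_pow, h, toLaurent_reverse]
    have h1 := Polynomial.reverse_natDegree_le Q
    rw [← e, Polynomial.natDegree_mul_X_pow _ (fun h0 => hP (by rw [h0, natDegree_zero]))] at h1
    omega
  have h' : toLaurent Q = invert (toLaurent P) := by rw [h]; exact (involutive_invert _).symm
  have hP := Polynomial.eq_C_of_natDegree_eq_zero (aux P Q h)
  refine ⟨P.coeff 0, hP, ?_⟩
  rw [hP, toLaurent_C, invert_C, ← toLaurent_C] at h'
  exact Polynomial.toLaurent_injective h'

theorem sq_eq_zero_of_dvd {A : Type u} [CommRing A] {f g a : A} {r s : A[X]}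
    (hr : Polynomial.C a = (Polynomial.C g * X - Polynomial.C f) * r)
    (hs : Polynomial.C a = (Polynomial.C f * X - Polynomial.C g) * s) : a ^ 2 = 0 := by
  have r0 : a = -(f * r.coeff 0) := by
    have := congrArg (fun P => P.coeff 0) hr
    simpa [sub_mul, mul_assoc] using this
  have s0 : a = -(g * s.coeff 0) := by
    have := congrArg (fun P => P.coeff 0) hs
    simpa [sub_mul, mul_assoc] using this
  have rk : ∀ k, g * r.coeff k = f * r.coeff (k + 1) := fun k => by
    have := congrArg (fun P => P.coeff (k + 1)) hr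
    simp [sub_mul, mul_assoc] at this
    linear_combination -this
  have sk : ∀ k, f * s.coeff k = g * s.coeff (k + 1) := fun k => by
    have := congrArg (fun P => P.coeff (k + 1)) hs
    simp [sub_mul, mul_assoc] at this
    linear_combination -this
  have key : ∀ k, a ^ 2 = f * g * r.coeff k * s.coeff k := fun k => by
    induction k with
    | zero =>
      rw [sq]
      conv_lhs => arg 1; rw [r0]
      conv_lhs => arg 2; rw [s0]
      ring
    | succ k ih =>
      rw [ih, show f * g * r.coeff k * s.coeff k = g * r.coeff k * (f * s.coeff k) by ring, rk, sk]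
      ring
  rw [key (r.natDegree + 1), Polynomial.coeff_eq_zero_of_natDegree_lt (Nat.lt_succ_self _)]
  ring

open LaurentPolynomial in
/-- The dichotomy `f/g` or `g/f`. -/
theorem uCov_dichotomy (hp : p.Prime) {L : Type u} [CommRing L] (f g : L) :
    UCov p (two (CommRingCat.of (AdjoinRoot (Polynomial.C g * X - Polynomial.C f)))
        (CommRingCat.of (AdjoinRoot (Polynomial.C f * X - Polynomial.C g))))
      (twoHom (AdjoinRoot.of _) (AdjoinRoot.of _)) := by
  refine ⟨1, fun A _ φ hA => ?_⟩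
  let F : A[X] := Polynomial.C (φ g) * X - Polynomial.C (φ f)
  let G : A[X] := Polynomial.C (φ f) * X - Polynomial.C (φ g)
  have hF : F ∣ (Polynomial.C g * X - Polynomial.C f).map φ := by simp [F]
  have hG : G ∣ (Polynomial.C f * X - Polynomial.C g).map φ := by simp [G]
  refine ⟨two (CommRingCat.of (AdjoinRoot F)) (CommRingCat.of (AdjoinRoot G)),
    twoHom (AdjoinRoot.of _) (AdjoinRoot.of _),
    twoMap (AdjoinRoot.map φ _ F hF) (AdjoinRoot.map φ _ G hG),
    ?_, ?_, ?_, ?_⟩
  · rintro ⟨⟨⟩⟩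
    · exact RingHom.ext fun x => (AdjoinRoot.map_of φ _ G hG x).symm
    · exact RingHom.ext fun x => (AdjoinRoot.map_of φ _ F hF x).symm
  · rintro ⟨⟨⟩⟩ C _ β χ hχ
    · have h0 := congrArg χ (AdjoinRoot.eval₂_root (Polynomial.C f * X - Polynomial.C g))
      rw [Polynomial.hom_eval₂, map_zero] at h0
      have h1 : G.eval₂ β (χ (AdjoinRoot.root (Polynomial.C f * X - Polynomial.C g))) = 0 := by
        rw [show G = (Polynomial.C f * X - Polynomial.C g).map φ by simp [G], Polynomial.eval₂_map, hχ]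
        exact h0
      exact ⟨AdjoinRoot.lift β _ h1, RingHom.ext fun a => AdjoinRoot.lift_of h1⟩
    · have h0 := congrArg χ (AdjoinRoot.eval₂_root (Polynomial.C g * X - Polynomial.C f))
      rw [Polynomial.hom_eval₂, map_zero] at h0
      have h1 : F.eval₂ β (χ (AdjoinRoot.root (Polynomial.C g * X - Polynomial.C f))) = 0 := by
        rw [show F = (Polynomial.C g * X - Polynomial.C f).map φ by simp [F], Polynomial.eval₂_map, hχ]
        exact h0
      exact ⟨AdjoinRoot.lift β _ h1, RingHom.ext fun a => AdjoinRoot.lift_of h1⟩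
  · intro a ha
    obtain ⟨r, hr⟩ := AdjoinRoot.mk_eq_zero.mp (show AdjoinRoot.mk F (Polynomial.C a) = 0 from ha ⟨true⟩)
    obtain ⟨s, hs⟩ := AdjoinRoot.mk_eq_zero.mp (show AdjoinRoot.mk G (Polynomial.C a) = 0 from ha ⟨false⟩)
    rw [pow_one]
    exact pow_eq_zero_of_le hp.two_le (sq_eq_zero_of_dvd hr hs)
  · intro b hb
    obtain ⟨P, hP⟩ := AdjoinRoot.mk_surjective (b ⟨true⟩)
    obtain ⟨Q, hQ⟩ := AdjoinRoot.mk_surjective (b ⟨false⟩)
    let w : A[T;T⁻¹] := LaurentPolynomial.C (φ g) * LaurentPolynomial.T 1 - LaurentPolynomial.C (φ f)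
    let q : A[T;T⁻¹] →+* A[T;T⁻¹] ⧸ Ideal.span {w} := Ideal.Quotient.mk _
    let inv' : A[X] →+* A[T;T⁻¹] := (LaurentPolynomial.invert (R := A)).toRingEquiv.toRingHom.comp toLaurent
    have hw : q w = 0 := Ideal.Quotient.eq_zero_iff_mem.mpr (Ideal.mem_span_singleton_self _)
    have e1 : q.comp toLaurent F = 0 := by
      simpa [F, w] using hw
    have hinv : LaurentPolynomial.invert (toLaurent G) = -(LaurentPolynomial.T (-1)) * w := by
      have hT : (LaurentPolynomial.T (-1) : A[T;T⁻¹]) * LaurentPolynomial.T 1 = 1 := by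
        rw [← LaurentPolynomial.T_add]
        exact LaurentPolynomial.T_zero
      simp only [G, w, map_sub, map_mul, toLaurent_C, toLaurent_X, LaurentPolynomial.invert_C,
        LaurentPolynomial.invert_T]
      linear_combination (LaurentPolynomial.C (φ g)) * hT
    have e2 : q.comp inv' G = 0 := by
      show q (LaurentPolynomial.invert (toLaurent G)) = 0
      rw [hinv, map_mul, hw, mul_zero]
    let β : AdjoinRoot F →+* A[T;T⁻¹] ⧸ Ideal.span {w} :=
      Ideal.Quotient.lift _ (q.comp toLaurent) fun x hx => by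
        obtain ⟨y, rfl⟩ := Ideal.mem_span_singleton'.mp hx
        rw [map_mul, e1, mul_zero]
    let β' : AdjoinRoot G →+* A[T;T⁻¹] ⧸ Ideal.span {w} :=
      Ideal.Quotient.lift _ (q.comp inv') fun x hx => by
        obtain ⟨y, rfl⟩ := Ideal.mem_span_singleton'.mp hx
        rw [map_mul, e2, mul_zero]
    have e := hb ⟨true⟩ ⟨false⟩ (CommRingCat.of (A[T;T⁻¹] ⧸ Ideal.span {w})) β β' (RingHom.ext fun a => by
      show q (toLaurent (Polynomial.C a)) = q (inv' (Polynomial.C a))
      simp [inv'])
    rw [← hP, ← hQ] at e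
    obtain ⟨R, hR⟩ := Ideal.mem_span_singleton'.mp (Ideal.Quotient.eq.mp (show q (toLaurent P) = q (inv' Q) from e))
    obtain ⟨Rp, Rm, rfl⟩ := exists_decomp R
    obtain ⟨a, haP, haQ⟩ := eq_C_of_toLaurent_eq_invert (P := P - F * Rp) (Q := Q - G * Rm) (by
      have hlF : toLaurent F = w := by simp [F, w]
      rw [map_sub, map_mul, hlF, map_sub, map_mul, map_sub, map_mul, hinv]
      simp only [inv', RingHom.comp_apply] at hR
      have hR' : (toLaurent Rp + LaurentPolynomial.T (-1) * LaurentPolynomial.invert (toLaurent Rm)) * w =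
          toLaurent P - LaurentPolynomial.invert (toLaurent Q) := hR
      linear_combination -hR')
    refine ⟨a ^ p ^ 1, ?_⟩
    rintro ⟨⟨⟩⟩
    · show AdjoinRoot.of G _ = _
      rw [map_pow, ← hQ]
      refine congrArg (· ^ p ^ 1) ?_
      rw [← AdjoinRoot.mk_C, ← haQ, map_sub, map_mul, AdjoinRoot.mk_self, zero_mul, sub_zero]
    · show AdjoinRoot.of F _ = _
      rw [map_pow, ← hP]
      refine congrArg (· ^ p ^ 1) ?_
      rw [← AdjoinRoot.mk_C, ← haP, map_sub, map_mul, AdjoinRoot.mk_self, zero_mul, sub_zero]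

/-! ### Faithfully flat maps -/

theorem uCov_faithfullyFlat {L L₁ : Type u} [CommRing L] [CommRing L₁] [Algebra L L₁] [Module.FaithfullyFlat L L₁] :
    UCov p (fun _ : PUnit.{u + 1} => CommRingCat.of L₁) (fun _ => algebraMap L L₁) := by
  refine ⟨0, fun A _ φ hA => ?_⟩
  letI := φ.toAlgebra
  refine ⟨fun _ => CommRingCat.of (A ⊗[L] L₁), fun _ => algebraMap A (A ⊗[L] L₁),
    fun _ => (Algebra.TensorProduct.includeRight (R := L) (A := A) (B := L₁)).toRingHom, ?_, ?_, ?_, ?_⟩
  · intro _
    refine RingHom.ext fun x => ?_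
    show (algebraMap L A x) ⊗ₜ[L] (1 : L₁) = (1 : A) ⊗ₜ[L] algebraMap L L₁ x
    rw [Algebra.algebraMap_eq_smul_one, Algebra.algebraMap_eq_smul_one, TensorProduct.smul_tmul]
  · intro _ C _ β χ hχ
    letI := (β.comp φ).toAlgebra
    let β₁ : A →ₐ[L] C := { β with commutes' := fun x => rfl }
    let χ₁ : L₁ →ₐ[L] C := { toRingHom := χ, commutes' := fun x => (RingHom.congr_fun hχ x).symm }
    exact ⟨(Algebra.TensorProduct.lift β₁ χ₁ fun _ _ => Commute.all _ _).toRingHom,
      RingHom.ext fun a => by simp [β₁]⟩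
  · intro a ha
    rw [pow_zero, pow_one]
    exact FaithfulSMul.algebraMap_injective A (A ⊗[L] L₁) (by rw [map_zero]; exact ha ⟨⟩)
  · intro b hb
    let B := A ⊗[L] L₁
    have e := hb ⟨⟩ ⟨⟩ (CommRingCat.of (B ⊗[A] B)) (Algebra.TensorProduct.includeLeftRingHom)
      (Algebra.TensorProduct.includeRight (R := A) (A := B) (B := B)).toRingHom (RingHom.ext fun a => by
        show (algebraMap A B a) ⊗ₜ[A] (1 : B) = (1 : B) ⊗ₜ[A] algebraMap A B a
        rw [Algebra.algebraMap_eq_smul_one, TensorProduct.smul_tmul])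
    have hmem : Algebra.TensorProduct.includeLeftSubRight A B (b ⟨⟩) = 0 := by
      rw [Algebra.TensorProduct.includeLeftSubRight_apply, sub_eq_zero]
      exact e
    obtain ⟨a, ha⟩ := ((Algebra.IsEffective.of_faithfullyFlat A B) _).mp hmem
    exact ⟨a, fun _ => by rw [pow_zero, pow_one]; exact ha⟩

/-! ### Standard open coverings -/

theorem uCov_away {L : Type u} [CommRing L] {ι : Type u} (h : ι → L) (hs : Ideal.span (Set.range h) = ⊤) :
    UCov p (fun i => CommRingCat.of (Localization.Away (h i))) (fun i => algebraMap L (Localization.Away (h i))) := by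
  refine ⟨0, fun A _ φ hA => ?_⟩
  have hu : ∀ (i : ι) {C : Type u} [CommRing C] (β : A →+* C) (χ : Localization.Away (h i) →+* C),
      β.comp φ = χ.comp (algebraMap L _) → IsUnit (β (φ (h i))) := fun i C _ β χ hχ => by
    rw [show β (φ (h i)) = χ (algebraMap L _ (h i)) from RingHom.congr_fun hχ (h i)]
    exact (IsLocalization.Away.algebraMap_isUnit (h i)).map χ
  refine ⟨fun i => CommRingCat.of (Localization.Away (φ (h i))), fun i => algebraMap A _,
    fun i => Localization.awayMap φ (h i), fun i => ?_, fun i C _ β χ hχ => ?_, ?_, ?_⟩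
  · refine RingHom.ext fun x => ?_
    show algebraMap A (Localization.Away (φ (h i))) (φ x) = Localization.awayMap φ (h i) (algebraMap L _ x)
    rw [Localization.awayMap, IsLocalization.Away.map, IsLocalization.map_eq]
  · exact ⟨IsLocalization.Away.lift (φ (h i)) (hu i β χ hχ),
      IsLocalization.Away.lift_comp (φ (h i)) (hu i β χ hχ)⟩
  · intro a ha
    rw [pow_zero, pow_one]
    refine Localization.algebraMap_injective_of_span_eq_top (Set.range (φ ∘ h)) ?_ ?_
    · rw [Set.range_comp, ← Ideal.map_span, hs, Ideal.map_top]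
    · refine funext fun ⟨_, i, hi⟩ => ?_
      subst hi
      rw [map_zero]
      exact ha i
  · intro b hb
    have hspan : Ideal.span (Set.range (φ ∘ h)) = ⊤ := by rw [Set.range_comp, ← Ideal.map_span, hs, Ideal.map_top]
    choose i hi using fun a : Set.range (φ ∘ h) => a.2
    have hc : ∀ a : Set.range (φ ∘ h), φ (h (i a)) = a.1 := hi
    let τ : ∀ (i : ι) (a : A), φ (h i) = a → Localization.Away (φ (h i)) →+* Localization.Away a := fun i a e =>
      IsLocalization.Away.lift (φ (h i)) (g := algebraMap A (Localization.Away a))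
        (by rw [e]; exact IsLocalization.Away.algebraMap_isUnit a)
    have hτ : ∀ (i : ι) (a : A) (e : φ (h i) = a), (τ i a e).comp (algebraMap A _) = algebraMap A _ := fun i a e =>
      IsLocalization.Away.lift_comp _ _
    obtain ⟨r, hr, -⟩ := Localization.existsUnique_algebraMap_eq_of_span_eq_top (Set.range (φ ∘ h)) hspan
      (fun a => τ (i a) a.1 (hc a) (b (i a))) (fun a c => hb (i a) (i c) (CommRingCat.of (Localization.Away (a.1 * c.1)))
        ((IsLocalization.Away.awayToAwayRight (P := Localization.Away (a.1 * c.1)) a.1 c.1).comp (τ (i a) a.1 (hc a)))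
        ((IsLocalization.Away.awayToAwayLeft (P := Localization.Away (a.1 * c.1)) c.1 a.1).comp (τ (i c) c.1 (hc c))) (by
          refine RingHom.ext fun x => ?_
          simp only [RingHom.comp_apply]
          erw [RingHom.congr_fun (hτ (i a) a.1 (hc a)) x, RingHom.congr_fun (hτ (i c) c.1 (hc c)) x,
            IsLocalization.Away.awayToAwayRight_eq, IsLocalization.Away.awayToAwayLeft_eq]))
    refine ⟨r, fun j => ?_⟩
    rw [pow_zero, pow_one]
    let a : Set.range (φ ∘ h) := ⟨φ (h j), j, rfl⟩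
    exact (hr a).trans (hb (i a) j (CommRingCat.of (Localization.Away (φ (h j)))) (τ (i a) a.1 (hc a)) (RingHom.id _)
      (hτ (i a) a.1 (hc a)))

end Groth.Agent.HTopPerf
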